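import Cfsg.Agent.CIT.A1

/-! CIT groups: critical pairs. -/

set_option autoImplicit false
set_option linter.unusedVariables false
set_option linter.unusedSectionVars false

namespace CIT

open Cfsg Subgroup FT H4 H5 GW
open scoped commutatorElement

variable {G : Type*} [Group G] [Finite G] {V W W' U T : Subgroup G} {k x y a b v g r n : G}

/-- `V = Ω₁ Z O₂(H)` for a 2-local `H = N(V)` -/
structure Vx (V : Subgroup G) : Prop where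
  el : ∀ x ∈ V, x * x = 1
  om : ∀ x ∈ Cen V, x ∈ Cen (Cen V) → x * x = 1 → x ∈ V
  core : pCoreIn 2 (Nor V) ≤ Cen V
  ne : V ≠ ⊥

theorem conj_cen (g : G) (A : Subgroup G) : conjS g (Cen A) = Cen (conjS g A) :=
  conjS_centralizer g A

theorem conj_nor (g : G) (A : Subgroup G) : conjS g (Nor A) = Nor (conjS g A) :=
  conjS_normalizer g A

theorem Vx.conj (h : Vx V) (g : G) : Vx (conjS g V) where
  el x hx := by
    have := h.el _ (mem_conjS.1 hx)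
    calc x * x = g * (g⁻¹ * x * g * (g⁻¹ * x * g)) * g⁻¹ := by group
      _ = 1 := by rw [this]; group
  om x h1 h2 h3 := by
    rw [← conj_cen] at h1 h2
    rw [← conj_cen] at h2
    refine mem_conjS.2 (h.om _ (mem_conjS.1 h1) (mem_conjS.1 h2) ?_)
    calc g⁻¹ * x * g * (g⁻¹ * x * g) = g⁻¹ * (x * x) * g := by group
      _ = 1 := by rw [h3]; group
  core := by
    rw [← conj_nor, ← conjS_pCoreIn, ← conj_cen]
    exact conjS_mono g h.core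
  ne e := h.ne (conjS_injective g (by rw [e]; simp))

theorem Vx.le_cen (h : Vx V) : V ≤ Cen V := el_le_cen h.el

theorem Vx.two (h : Vx V) (c : IsCIT G) : IsPGroup 2 (Cen V) := c.cen (el_two h.el) h.ne

theorem cen_le_nor (V : Subgroup G) : Cen V ≤ Nor V := cnor le_rfl

theorem nor_le_ncen (V : Subgroup G) : Nor V ≤ Nor (Cen V) := ncen le_rfl

theorem Vx.cen_le (h : Vx V) (c : IsCIT G) (hT : IsSylowOf 2 T (Nor V)) : Cen V ≤ T :=
  hT.le_of_le_normalizer (h.two c) (cen_le_nor V) (hT.le.trans (nor_le_ncen V))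

/-- central involutions of a Sylow subgroup of `N(V)` lie in `V` -/
theorem Vx.zmem (h : Vx V) (c : IsCIT G) (hT : IsSylowOf 2 T (Nor V)) (h2 : x ∈ Cen T)
    (h3 : x * x = 1) : x ∈ V :=
  h.om x (cen.2 fun y hy => cen.1 h2 y (h.cen_le c hT (h.le_cen hy)))
    (cen.2 fun y hy => cen.1 h2 y (h.cen_le c hT hy)) h3

/-- a critical pair -/
structure CP (V W : Subgroup G) : Prop where
  cit : IsCIT G
  l : Vx V
  r : Vx W
  nV : W ≤ Nor V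
  nW : V ≤ Nor W
  nc : ¬ W ≤ Cen V

namespace CP

theorem symm (h : CP V W) : CP W V := ⟨h.cit, h.r, h.l, h.nW, h.nV, fun e => h.nc (le_cen_symm e)⟩

theorem conj (h : CP V W) (g : G) : CP (conjS g V) (conjS g W) :=
  ⟨h.cit, h.l.conj g, h.r.conj g, by rw [← conj_nor]; exact conjS_mono g h.nV,
    by rw [← conj_nor]; exact conjS_mono g h.nW,
    by rw [← conj_cen, conjS_le_conjS_iff]; exact h.nc⟩

theorem conj' (h : CP V W) (hg : g ∈ Nor V) : CP V (conjS g W) := by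
  have := h.conj g
  rwa [mem_normalizer_iff_conjS.1 hg] at this

theorem cm_mem (h : CP V W) (hv : v ∈ V) (ha : a ∈ W) : v * a * v⁻¹ * a⁻¹ ∈ V ⊓ W :=
  mem_inf.2 ⟨by simpa [mul_assoc] using mul_mem hv (cmem (h.nV ha) (inv_mem hv)),
    mul_mem (cmem (h.nW hv) ha) (inv_mem ha)⟩

theorem aux (h : CP V W) (ha : a ∈ W) (a1 : a ∉ Cen V) :
    V ⊓ Cen1 a = V ⊓ W ∧ Nat.card ↥(V ⊓ W) ^ 2 = Nat.card V ∧
      ∀ r ∈ V ⊓ W, ∃ u ∈ V, u * a * u⁻¹ * a⁻¹ = r := by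
  obtain ⟨h1, h2⟩ := h.cit.invo h.l.el h.l.core (h.nV ha) a1 (by rw [h.r.el a ha]; exact one_mem _)
  have e : V ⊓ Cen1 a = V ⊓ W := le_antisymm (fun x hx => by
    obtain ⟨u, hu, rfl⟩ := h2 x hx.1 hx.2
    exact h.cm_mem hu ha) fun x hx => ⟨hx.1, c1.2 (el_comm h.r.el hx.2 ha)⟩
  exact ⟨e, e ▸ h1, fun r hr => h2 r hr.1 (e.ge hr).2⟩

theorem card (h : CP V W) : Nat.card ↥(V ⊓ W) ^ 2 = Nat.card V := by
  obtain ⟨a, ha, a1⟩ := SetLike.not_le_iff_exists.1 h.nc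
  exact (h.aux ha a1).2.1

theorem mem_of_cen (h : CP V W) (ha : a ∈ W) (a1 : a ∈ Cen V) : a ∈ V := by
  obtain ⟨v, hv, v1⟩ := SetLike.not_le_iff_exists.1 h.symm.nc
  exact ((h.symm.aux hv v1).1.le ⟨ha, c1.2 (cen.1 a1 v hv)⟩).2

theorem ns (h : CP V W) (hv : v ∈ V) (ha : a ∈ W) (e : v * a = a * v) : v ∈ W ∨ a ∈ V := by
  by_cases a1 : a ∈ Cen V
  · exact Or.inr (h.mem_of_cen ha a1)
  · exact Or.inl ((h.aux ha a1).1.le ⟨hv, c1.2 e⟩).2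

theorem exists_W (h : CP V W) : ∃ a ∈ W, a ∉ V := by
  obtain ⟨a, ha, a1⟩ := SetLike.not_le_iff_exists.1 h.nc
  exact ⟨a, ha, fun e => a1 (h.l.le_cen e)⟩

theorem mem_of_cenW (h : CP V W) (hv : v ∈ V) (e : ∀ a ∈ W, v * a = a * v) : v ∈ W := by
  obtain ⟨a, ha, a1⟩ := h.exists_W
  exact (h.ns hv ha (e a ha)).resolve_right a1

theorem onto (h : CP V W) (hv : v ∈ V) (v1 : v ∉ W) (hr : r ∈ V ⊓ W) :
    ∃ a ∈ W, a * v * a⁻¹ = r * v := by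
  obtain ⟨a, ha, e⟩ := (h.symm.aux hv fun e => v1 (h.symm.mem_of_cen hv e)).2.2 r ⟨hr.2, hr.1⟩
  exact ⟨a, ha, by rw [← e]; group⟩

theorem R_ne (h : CP V W) : V ⊓ W ≠ ⊥ := fun e => by
  have := h.card
  rw [e, card_bot] at this
  exact h.l.ne (card_eq_one.1 this.symm)

theorem exists_R (h : CP V W) : ∃ r ∈ V ⊓ W, r ≠ 1 := by
  simpa using (SetLike.not_le_iff_exists.1 fun e => h.R_ne (le_bot_iff.1 e))

theorem card_eq (h : CP V W) (h' : CP V W') : Nat.card ↥(V ⊓ W) = Nat.card ↥(V ⊓ W') :=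
  Nat.pow_left_injective two_ne_zero (h.card.trans h'.card.symm)

theorem conj_mul (h : CP V W) (hv : v ∈ V) (ha : a ∈ W) : ∃ r ∈ V ⊓ W, a * v * a⁻¹ = r * v :=
  ⟨_, (inf_comm W V).le (h.symm.cm_mem ha hv), by group⟩

/-- the axes of two critical pairs at `V` coincide or meet trivially -/
theorem ti (h : CP V W) (h' : CP V W') (hx : x ∈ V) (h1 : x ∈ W) (h2 : x ∈ W') (x1 : x ≠ 1) :
    V ⊓ W = V ⊓ W' := by
  by_contra hne
  have key : ∀ {W W' : Subgroup G}, CP V W → CP V W' → V ⊓ W ≠ V ⊓ W' →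
      V ⊓ W ≤ ⁅V ⊓ W ⊔ V ⊓ W', W⁆ := fun {W W'} h h' hne r hr => by
    obtain ⟨v, hv, v1⟩ := SetLike.not_le_iff_exists.1 fun e : V ⊓ W' ≤ V ⊓ W =>
      hne (eq_of_le_of_card_ge e (h.card_eq h').le).symm
    obtain ⟨a, ha, e⟩ := h.onto hv.1 (fun e => v1 ⟨hv.1, e⟩) hr
    have : r = ⁅v, a⁆⁻¹ := by
      rw [commutatorElement_inv, commutatorElement_def, e]; group
    exact this ▸ inv_mem (commutator_mem_commutator (mem_sup_right hv) ha)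
  have hP : IsPGroup 2 ↥(W ⊔ W') := (h.cit.inv (h.l.el x hx) x1).to_le
    (sup_le (fun a ha => c1.2 (el_comm h.r.el ha h1)) fun a ha => c1.2 (el_comm h'.r.el ha h2))
  have UV : V ⊓ W ⊔ V ⊓ W' ≤ V := sup_le inf_le_left inf_le_left
  have hn : W ⊔ W' ≤ Nor (V ⊓ W ⊔ V ⊓ W') := by
    refine sup_le (fun a ha => mnor fun u hu => ?_) fun a ha => mnor fun u hu => ?_
    · obtain ⟨r, hr, e⟩ := h.conj_mul (UV hu) ha
      exact e ▸ mul_mem (mem_sup_left hr) hu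
    · obtain ⟨r, hr, e⟩ := h'.conj_mul (UV hu) ha
      exact e ▸ mul_mem (mem_sup_right hr) hu
  refine (commutator_lt_of_isPGroup hn ((el_two h.l.el).to_le UV) hP
    fun e => h.R_ne (le_bot_iff.1 (e ▸ le_sup_left))).not_ge (sup_le ?_ ?_)
  · exact (key h h' hne).trans (commutator_mono le_rfl le_sup_left)
  · exact (key h' h (Ne.symm hne)).trans (commutator_mono (sup_comm _ _).le le_sup_right)

theorem conj_inf (hg : g ∈ Nor V) (W : Subgroup G) : conjS g (V ⊓ W) = V ⊓ conjS g W := by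
  rw [conjS_inf, mem_normalizer_iff_conjS.1 hg]

theorem nor_of (h : CP V W) (hg : g ∈ Nor V) (hx : x ∈ V ⊓ W) (x1 : x ≠ 1)
    (e : g * x * g⁻¹ ∈ W) : g ∈ Nor (V ⊓ W) := by
  rw [mem_normalizer_iff_conjS, conj_inf hg]
  exact (h.conj' hg).ti h (cmem hg hx.1) (conj_mem_conjS hx.2) e (by simpa using x1)

theorem W_cen (h : CP V W) : W ≤ Cen (V ⊓ W) :=
  fun a ha => cen.2 fun x hx => el_comm h.r.el ha hx.2

theorem two_cenR (h : CP V W) : IsPGroup 2 (Cen (V ⊓ W)) :=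
  h.cit.cen ((el_two h.l.el).to_le inf_le_left) h.R_ne

theorem exists_conj (h : CP V W) : ∃ g ∈ Nor V, V ⊓ W ⊓ conjS g W = ⊥ := by
  have : ¬ Nor V ≤ Nor (V ⊓ W) := fun e => h.nc (le_trans (le_inf h.nV h.W_cen)
    ((le_pCoreIn inf_le_left (ninf le_normalizer (ncen e))
      (h.two_cenR.to_le inf_le_right)).trans h.l.core))
  obtain ⟨g, hg, g1⟩ := SetLike.not_le_iff_exists.1 this
  refine ⟨g, hg, eq_bot_iff.2 fun x hx => mem_bot.2 (by_contra fun x1 => g1 ?_)⟩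
  rw [mem_normalizer_iff_conjS, conj_inf hg]
  exact (h.conj' hg).ti h hx.1.1 hx.2 hx.1.2 x1

theorem dec (h : CP V W) (h' : CP V W') (hd : V ⊓ W ⊓ W' = ⊥) (hv : v ∈ V) :
    ∃ r ∈ V ⊓ W, ∃ s ∈ V ⊓ W', r * s = v := by
  have hn : V ⊓ W' ≤ Nor (V ⊓ W) :=
    cnor fun x hx => cen.2 fun y hy => el_comm h.l.el hx.1 hy.1
  have e := card_sup_of_disjoint hn (by
    rw [eq_bot_iff, ← hd]; exact le_inf inf_le_left (inf_le_right.trans inf_le_right))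
  rw [← h.card_eq h', ← sq, h.card] at e
  have := eq_of_le_of_card_ge (sup_le inf_le_left inf_le_left : V ⊓ W ⊔ V ⊓ W' ≤ V) e.ge
  exact (mem_sup_of_le_normalizer_left hn).1 (this.ge hv)

theorem not_mem (hd : V ⊓ W ⊓ W' = ⊥) (hs : x ∈ V ⊓ W') (x1 : x ≠ 1) : x ∉ W := fun e =>
  x1 (mem_bot.1 (hd.le ⟨⟨hs.1, e⟩, hs.2⟩))

theorem dsymm (hd : V ⊓ W ⊓ W' = ⊥) : V ⊓ W' ⊓ W = ⊥ := by rw [inf_right_comm, hd]

theorem cover (h : CP V W) (h' : CP V W') (hd : V ⊓ W ⊓ W' = ⊥) (hv : v ∈ V) (v1 : v ∉ W) :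
    ∃ a ∈ W, a * v * a⁻¹ ∈ W' := by
  obtain ⟨r, hr, s, hs, rfl⟩ := h.dec h' hd hv
  obtain ⟨a, ha, e⟩ := h.onto hv v1 hr
  refine ⟨a, ha, ?_⟩
  rw [e, ← mul_assoc, h.l.el r hr.1, one_mul]
  exact hs.2

/-- `B = W K` -/
theorem borel (h : CP V W) (h' : CP V W') (hd : V ⊓ W ⊓ W' = ⊥) (hn : n ∈ Nor V)
    (hn' : n ∈ Nor (V ⊓ W)) : ∃ a ∈ W, a * n ∈ Nor (V ⊓ W') := by
  obtain ⟨s, hs, s1⟩ := h'.exists_R
  obtain ⟨a, ha, e⟩ := h.cover h' hd (cmem hn hs.1) fun e => not_mem hd hs s1 (by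
    simpa [mul_assoc] using (cmem' hn' (⟨cmem hn hs.1, e⟩ : _ ∈ V ⊓ W)).2)
  exact ⟨a, ha, h'.nor_of (mul_mem (h.nV ha) hn) hs s1 (by simpa [mul_assoc] using e)⟩

theorem exists_a (h : CP V W) {X : Subgroup G} (hX : IsPGroup 2 X) (hk : k ∈ X) (h1 : X ≤ Nor V)
    (h2 : X ≤ Nor (V ⊓ W)) :
    ∃ a ∈ Nor V, a * k * a⁻¹ * k⁻¹ ∈ Cen V ∧ V ⊓ Cen1 a = V ⊓ W := by
  have t2 : IsPGroup 2 ↥(Nor V ⊓ Cen (V ⊓ W)) := h.two_cenR.to_le inf_le_right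
  have hn : X ≤ Nor (Nor V ⊓ Cen (V ⊓ W)) := ninf (lnor h1) (ncen h2)
  obtain ⟨a, ha, a1, a2, a3⟩ := H7.exists_central_mod (N := Cen V) (two_sup t2 hX hn) le_sup_left
    (sup_le le_normalizer hn) fun e => h.nc ((le_inf h.nV h.W_cen).trans e)
  refine ⟨a, ha.1, a2 k (mem_sup_right hk), (eq_of_le_of_card_ge
    (show V ⊓ W ≤ V ⊓ Cen1 a from fun x hx => ⟨hx.1, c1s.1 (c1.2 (cen.1 ha.2 x hx))⟩) ?_).symm⟩
  have := (h.cit.invo h.l.el h.l.core ha.1 a1 (by rwa [← sq])).1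
  exact (Nat.pow_left_injective two_ne_zero (this.trans h.card.symm)).le

/-- 2-subgroups fixing two axes centralize `V` -/
theorem two_le (h : CP V W) (h' : CP V W') (hd : V ⊓ W ⊓ W' = ⊥) {X : Subgroup G}
    (hX : IsPGroup 2 X) (h1 : X ≤ Nor V) (h2 : X ≤ Nor (V ⊓ W)) (h3 : X ≤ Nor (V ⊓ W')) :
    X ≤ Cen V := fun k hk => by
  by_contra k1
  obtain ⟨a, ha, a1, a2⟩ := h.exists_a hX hk h1 h2
  obtain ⟨b, hb, b1, b2⟩ := h'.exists_a hX hk h1 h3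
  have hP := h.cit.two_cm1 (two_sup (h.l.two h.cit) hX (h1.trans (nor_le_ncen V))) le_sup_left
    (mem_sup_right hk) k1 (nor_le_ncen V)
  obtain ⟨z, hz, z1, -, z3⟩ := H7.exists_fixed_order_p (el_two h.l.el) hP (fun f hf => hf.1) h.l.ne
  exact z1 (mem_bot.1 (hd.le ⟨a2.le ⟨hz, c1s.1 (c1.2 (z3 a (mem_sup_right ⟨ha, a1⟩)))⟩,
    (b2.le ⟨hz, c1s.1 (c1.2 (z3 b (mem_sup_right ⟨hb, b1⟩)))⟩).2⟩))

theorem two_T (h : CP V W) : IsPGroup 2 ↥(W ⊔ Cen V) :=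
  two_sup' (el_two h.r.el) (h.l.two h.cit) (h.nV.trans (nor_le_ncen V))

theorem T_le (h : CP V W) : W ⊔ Cen V ≤ Nor V := sup_le h.nV (cen_le_nor V)

theorem W_nor (h : CP V W) : W ≤ Nor (V ⊓ W) := cnor h.W_cen

theorem syl (h : CP V W) : IsSylowOf 2 (W ⊔ Cen V) (Nor V) := by
  refine isSylowOf_of_maximal h.T_le h.two_T fun P hP h1 h2 p hp => ?_
  obtain ⟨g, hg, hd⟩ := h.exists_conj
  obtain ⟨z, hz, z1, -, z3⟩ := H7.exists_fixed_order_p (el_two h.l.el) hP h2 h.l.ne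
  have zW : z ∈ W := h.mem_of_cenW hz fun a ha => (z3 a (mem_sup_right (h1 (mem_sup_left ha)))).symm
  have pR : ∀ p ∈ P, p ∈ Nor (V ⊓ W) := fun p hp => h.nor_of (h2 hp) ⟨hz, zW⟩ z1 (by
    rw [z3 p (mem_sup_right hp)]; simpa using zW)
  obtain ⟨a, ha, e⟩ := h.borel (h.conj' hg) hd (h2 hp) (pR p hp)
  have m : a * p ∈ P := mul_mem (h1 (mem_sup_left ha)) hp
  have := h.two_le (h.conj' hg) hd (hP.to_le (zpowers_le.2 m)) (zpowers_le.2 (h2 m))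
    (zpowers_le.2 (pR _ m)) (zpowers_le.2 e) (mem_zpowers _)
  simpa using mul_mem (mem_sup_left (inv_mem ha) : _ ∈ W ⊔ Cen V) (mem_sup_right this)

theorem eq_T (h : CP V W) (hT : IsSylowOf 2 T (Nor V)) (hW : W ≤ T) : T = W ⊔ Cen V :=
  h.syl.eq_of_le hT.isPGroup (sup_le hW (h.l.cen_le h.cit hT)) hT.le

theorem T_cen (h : CP V W) : W ⊔ Cen V ≤ Cen (V ⊓ W) :=
  sup_le h.W_cen (centralizer_le inf_le_left)

theorem cenR (h : CP V W) : Nor V ⊓ Cen (V ⊓ W) = W ⊔ Cen V :=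
  h.syl.eq_of_le (h.two_cenR.to_le inf_le_right) (le_inf h.T_le h.T_cen) inf_le_left

theorem zmem (h : CP V W) (h2 : x ∈ Cen (W ⊔ Cen V)) (h3 : x * x = 1) : x ∈ V ⊓ W :=
  have m := h.l.zmem h.cit h.syl h2 h3
  ⟨m, h.mem_of_cenW m fun a ha => cen.1 h2 a (mem_sup_left ha)⟩

/-- `[T, V] ≤ R` -/
theorem T_comm (h : CP V W) {t : G} (ht : t ∈ W ⊔ Cen V) (hv : v ∈ V) :
    t * v * t⁻¹ * v⁻¹ ∈ V ⊓ W := by
  obtain ⟨a, ha, c, hc, rfl⟩ :=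
    (mem_sup_of_le_normalizer_right (h.nV.trans (nor_le_ncen V))).1 ht
  have : a * c * v * (a * c)⁻¹ * v⁻¹ = a * v * a⁻¹ * v⁻¹ := by
    rw [mul_assoc a c v, cen.1 hc v hv]; group
  exact this ▸ (inf_comm W V).le (h.symm.cm_mem ha hv)

end CP

end CIT
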