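import Cfsg.Agent.CIT.A2

/-! CIT groups: the graph of maximal 2-locals. -/

set_option autoImplicit false
set_option linter.unusedVariables false
set_option linter.unusedSectionVars false

namespace CIT

open Cfsg Subgroup FT H4 H5 GW
open scoped commutatorElement

variable {G : Type*} [Group G] [Finite G] {V W U T S D : Subgroup G} {k x y a b v g r : G}
  {f : ℕ → Subgroup G} {c n : ℕ}

/-- `N(V)` is a maximal 2-local which is not 2-closed -/
structure MV (V : Subgroup G) : Prop extends Vx V where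
  mx : ∀ D : Subgroup G, IsPGroup 2 D → D ≠ ⊥ → Nor V ≤ Nor D → Nor D ≤ Nor V
  nc : ¬ IsSylowOf 2 (Cen V) (Nor V)

theorem syl_conj {K : Subgroup G} (h : IsSylowOf 2 T K) (g : G) :
    IsSylowOf 2 (conjS g T) (conjS g K) := h.map _

theorem MV.conj (h : MV V) (g : G) : MV (conjS g V) where
  toVx := h.toVx.conj g
  mx D h1 h2 h3 := by
    have := h.mx (conjS g⁻¹ D) (h1.map _) (fun e => h2 (conjS_injective g⁻¹ (by rw [e]; simp))) (by
      rw [← conj_nor, ← conjS_le_conjS_iff g, conjS_conjS_inv, conj_nor]; exact h3)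
    rwa [← conj_nor, ← conjS_le_conjS_iff g, conjS_conjS_inv, conj_nor] at this
  nc e := h.nc (by
    have := syl_conj e g⁻¹
    rwa [conj_cen, conj_nor, conjS_inv_conjS] at this)

def Adj (V W : Subgroup G) : Prop :=
  MV V ∧ MV W ∧ ∃ T, IsSylowOf 2 T (Nor V) ∧ IsSylowOf 2 T (Nor W)

theorem Adj.symm (h : Adj V W) : Adj W V :=
  let ⟨h1, h2, T, h3, h4⟩ := h; ⟨h2, h1, T, h4, h3⟩

theorem Adj.conj (h : Adj V W) (g : G) : Adj (conjS g V) (conjS g W) :=
  let ⟨h1, h2, T, h3, h4⟩ := h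
  ⟨h1.conj g, h2.conj g, _, conj_nor g V ▸ syl_conj h3 g, conj_nor g W ▸ syl_conj h4 g⟩

def Walk (f : ℕ → Subgroup G) (n : ℕ) : Prop := MV (f 0) ∧ ∀ i < n, Adj (f i) (f (i + 1))

def cons (U : Subgroup G) (f : ℕ → Subgroup G) : ℕ → Subgroup G
  | 0 => U
  | i + 1 => f i

theorem Walk.cons (h : Walk f n) (hU : Adj U (f 0)) : Walk (cons U f) (n + 1) :=
  ⟨hU.1, fun i hi => match i with
    | 0 => hU
    | i + 1 => h.2 i (by omega)⟩

theorem Walk.tail (h : Walk f (n + 1)) : Walk (fun i => f (i + 1)) n :=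
  ⟨(h.2 0 (by omega)).2.1, fun i hi => h.2 (i + 1) (by omega)⟩

theorem Walk.init (h : Walk f (n + 1)) : Walk f n := ⟨h.1, fun i hi => h.2 i (by omega)⟩

/-- all walks of length at most `c` have commuting ends -/
def Short (G : Type*) [Group G] (c : ℕ) : Prop :=
  ∀ n ≤ c, ∀ f : ℕ → Subgroup G, Walk f n → f n ≤ Cen (f 0)

theorem Short.adj (h : Short G (c + 1)) (ha : Adj V W) : W ≤ Cen V :=
  h 1 (by omega) _ (Walk.cons (f := fun _ => W) (n := 0) ⟨ha.2.1, fun i hi => by omega⟩ ha)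

theorem crit (hc : IsCIT G) (hs : Short G c) (hf : Walk f (c + 1)) (hn : ¬ f (c + 1) ≤ Cen (f 0)) :
    CP (f 0) (f (c + 1)) ∧
      (∀ T, IsSylowOf 2 T (Nor (f 0)) → IsSylowOf 2 T (Nor (f 1)) → T = f (c + 1) ⊔ Cen (f 0)) ∧
      (∀ T, IsSylowOf 2 T (Nor (f c)) → IsSylowOf 2 T (Nor (f (c + 1))) →
        T = f 0 ⊔ Cen (f (c + 1))) := by
  have h1 : f (c + 1) ≤ Cen (f 1) := hs c le_rfl _ hf.tail
  have h2 : f 0 ≤ Cen (f c) := le_cen_symm (hs c le_rfl _ hf.init)
  obtain ⟨m0, m1, T, t0, t1⟩ := hf.2 0 (by omega)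
  obtain ⟨m2, m3, T', t2, t3⟩ := hf.2 c (by omega)
  have h : CP (f 0) (f (c + 1)) := ⟨hc, m0.toVx, m3.toVx,
    (h1.trans (m1.toVx.cen_le hc t1)).trans t0.le, (h2.trans (m2.toVx.cen_le hc t2)).trans t3.le, hn⟩
  exact ⟨h, fun T a b => h.eq_T a (h1.trans (m1.toVx.cen_le hc b)),
    fun T a b => h.symm.eq_T b (h2.trans (m2.toVx.cen_le hc a))⟩

theorem long (hc : IsCIT G) (hs : Short G (c + 1)) : Short G (c + 2) := by
  intro n hn f hf
  rcases Nat.lt_or_ge n (c + 2) with l | l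
  · exact hs n (by omega) f hf
  obtain rfl : n = c + 2 := by omega
  by_contra hn
  obtain ⟨h, h1, h2⟩ := crit hc hs hf hn
  obtain ⟨m0, m1, T, t0, t1⟩ := hf.2 0 (by omega)
  obtain ⟨m2, m3, T', t2, t3⟩ := hf.2 (c + 1) (by omega)
  have hW1 : f (c + 2) ≤ Cen (f 1) := hs _ le_rfl _ hf.tail
  obtain rfl := h1 T t0 t1
  obtain rfl := h2 T' t2 t3
  generalize hV : f 0 = V at *
  generalize hW : f (c + 1 + 1) = W at *
  obtain ⟨g, hg, hd⟩ := h.exists_conj
  have h' := h.conj' hg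
  have eV := mem_normalizer_iff_conjS.1 hg
  have eT : conjS g (W ⊔ Cen V) = conjS g W ⊔ Cen V := by rw [conjS_sup, conj_cen, eV]
  have s0 := h'.syl
  have s1 : IsSylowOf 2 (conjS g W ⊔ Cen V) (Nor (conjS g (f 1))) := by
    rw [← eT, ← conj_nor]; exact syl_conj t1 g
  have ad : Adj (conjS g (f 1)) V := ⟨m1.conj g, m0, _, s1, s0⟩
  have no : ¬ W ≤ Cen (V ⊓ conjS g W) := fun e => h'.R_ne (eq_bot_iff.2 fun x hx =>
    hd.le ⟨⟨hx.1, h.mem_of_cenW hx.1 fun a ha => (cen.1 (e ha) x hx).symm⟩, hx.2⟩)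
  have hw : Walk (cons (conjS g (f 1)) f) (c + 2) := hf.init.cons (hV ▸ ad)
  by_cases e : f (c + 1) ≤ Cen (conjS g (f 1))
  · generalize hU : conjS g (f 1) = U at *
    have u1 : U ≤ V ⊔ Cen W := (le_cen_symm e).trans (m2.toVx.cen_le hc t2)
    have u2 : V ≤ Nor U := cnor (hs.adj ad)
    have u3 : ∀ a ∈ W, ∀ y ∈ V ⊔ U, a * y * a⁻¹ * y⁻¹ ∈ V := fun a ha y hy => by
      obtain ⟨v, hv, u, hu, rfl⟩ := (mem_sup_of_le_normalizer_right u2).1 hy
      have := mul_mem (mul_mem (cmem (h.nV ha) hv) (inv_mem (h.symm.T_comm (u1 hu) ha).2))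
        (inv_mem hv)
      simpa [mul_assoc] using this
    have u4 : V ⊔ U ≤ V := by
      by_contra hn
      have l1 : conjS g W ⊔ Cen V ⊔ W ≤ Nor V := sup_le s0.le h.nV
      have := hc.cenmod (L := conjS g W ⊔ Cen V ⊔ W)
        (two_sup' (el_two h.l.el) (el_two ad.1.el) u2) le_sup_left hn l1
        (sup_le (nsup s0.le s1.le) fun a ha => mnor fun y hy => by
          simpa using mul_mem (mem_sup_left (u3 a ha y hy) : _ ∈ V ⊔ U) hy) le_sup_right u3
      exact no ((this.trans ((s0.of_le le_sup_left l1).le_of_le_normalizer (isPGroup_pCoreIn _ _)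
        (pCoreIn_le _ _) (le_sup_left.trans (le_normalizer_pCoreIn _ _)))).trans h'.T_cen)
    have u5 : f 1 ≤ V := by
      rw [← conjS_le_conjS_iff g, eV, hU]; exact le_sup_right.trans u4
    have u6 : f 1 ≤ V ⊓ W := fun x hx =>
      ⟨u5 hx, h.mem_of_cenW (u5 hx) fun a ha => (cen.1 (hW1 ha) x hx).symm⟩
    have u7 : W ⊔ Cen V = Cen (f (0 + 1)) :=
      le_antisymm (h.T_cen.trans (centralizer_le u6)) (m1.toVx.cen_le hc t1)
    exact m1.nc (u7 ▸ t1)
  · obtain ⟨k, k1, -⟩ := crit hc hs hw e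
    have k2 := k1 _ s1 (hV ▸ s0)
    refine no (le_cen_symm fun x hx => hs.adj (Adj.symm ⟨m2, m3, _, t2, t3⟩) ?_)
    exact (k.zmem (k2 ▸ le_cen_symm h'.T_cen hx) (h.l.el x hx.1)).2

/-- the amalgam with `b = 1` -/
structure Pair (V W : Subgroup G) : Prop extends CP V W where
  cV : Cen V = V
  cW : Cen W = W

theorem CP.cen_eq (h : CP V W) (e : W ⊔ Cen V = V ⊔ Cen W) : Cen V = V := by
  refine le_antisymm (by_contra fun hn => h.nc ?_) h.l.le_cen
  exact (h.cit.cenmod (h.l.two h.cit) h.l.le_cen hn le_rfl (nor_le_ncen V) h.nV fun a ha x hx => by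
    simpa [mul_assoc] using V.inv_mem (h.symm.T_comm (e.le (mem_sup_right hx)) ha).2).trans h.l.core

theorem short_or (hc : IsCIT G) : (∀ c, Short G c) ∨ ∃ V W : Subgroup G, Pair V W := by
  have h0 : Short G 0 := fun n hn f hf => by
    obtain rfl : n = 0 := by omega
    exact hf.1.le_cen
  by_cases h1 : Short G 1
  · refine Or.inl fun c => ?_
    have : ∀ c, Short G (c + 1) := fun c => by
      induction c with
      | zero => exact h1
      | succ c ih => exact long hc ih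
    exact fun n hn => this c n (by omega)
  · right
    simp only [Short, not_forall] at h1
    obtain ⟨n, hn, f, hf, e⟩ := h1
    obtain rfl : n = 1 := by
      by_contra hne
      exact e (h0 n (by omega) f hf)
    obtain ⟨h, h1, h2⟩ := crit hc h0 hf e
    obtain ⟨m0, m1, T, t0, t1⟩ := hf.2 0 (by omega)
    have := (h1 T t0 t1).symm.trans (h2 T t0 t1)
    exact ⟨_, _, h, h.cen_eq this, h.symm.cen_eq this.symm⟩

end CIT
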