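import Cfsg.Agent.CIT.A3

/-! CIT groups: without critical pairs there is a strongly embedded subgroup. -/

set_option autoImplicit false
set_option linter.unusedVariables false
set_option linter.unusedSectionVars false

namespace CIT

open Cfsg Subgroup FT H4 H5 GW

variable {G : Type*} [Group G] [Finite G] {V W U T S D : Subgroup G} {k x y a b v g r : G}

abbrev Reach (V W : Subgroup G) : Prop := Relation.ReflTransGen Adj V W

theorem Reach.walk (h : Reach V W) (hW : MV W) : ∃ n f, Walk f n ∧ f 0 = V ∧ f n = W := by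
  induction h using Relation.ReflTransGen.head_induction_on with
  | refl => exact ⟨0, fun _ => W, ⟨hW, fun i hi => by omega⟩, rfl, rfl⟩
  | head h1 _ ih =>
    obtain ⟨n, f, h2, h3, h4⟩ := ih
    exact ⟨n + 1, _, h2.cons (h3 ▸ h1), rfl, h4⟩

theorem Reach.mv (h : Reach V W) (hV : MV V) : MV W := by
  induction h with
  | refl => exact hV
  | tail _ h1 _ => exact h1.2.1

theorem Reach.symm (h : Reach V W) : Reach W V := by
  induction h with
  | refl => exact Relation.ReflTransGen.refl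
  | tail _ h1 ih => exact ih.head h1.symm

theorem Reach.conj (h : Reach V W) (g : G) : Reach (conjS g V) (conjS g W) := by
  induction h with
  | refl => exact Relation.ReflTransGen.refl
  | tail _ h1 ih => exact ih.tail (h1.conj g)

/-- the involutions in the centre -/
def om (Q : Subgroup G) : Subgroup G where
  carrier := {x | x ∈ Q ∧ x ∈ Cen Q ∧ x * x = 1}
  one_mem' := ⟨one_mem _, one_mem _, one_mul _⟩
  mul_mem' := fun {x y} hx hy => ⟨mul_mem hx.1 hy.1, mul_mem hx.2.1 hy.2.1, by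
    rw [mul_assoc, ← mul_assoc y, ← cen.1 hx.2.1 y hy.1, mul_assoc, hy.2.2, mul_one, hx.2.2]⟩
  inv_mem' := fun {x} hx => ⟨inv_mem hx.1, inv_mem hx.2.1, by rw [← mul_inv_rev, hx.2.2, inv_one]⟩

theorem nor_om (Q : Subgroup G) : Nor Q ≤ Nor (om Q) := fun g hg => mnor fun x hx =>
  ⟨cmem hg hx.1, cmem (mcen hg) hx.2.1, by rw [conj_mul, hx.2.2]; group⟩

theorem nor_of_short (hs : ∀ c, Short G c) (hV : MV V) (h : Reach V (conjS g W)) (h' : Reach V W) :
    Nor W = Nor V ∧ (W = V → g ∈ Nor V) := by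
  let A : Subgroup G := ⨆ (W : Subgroup G) (_ : Reach V W), W
  have hA : ∀ W, Reach V W → W ≤ A := fun W hW => le_iSup₂_of_le W hW le_rfl
  have c1 : A ≤ Cen A := iSup₂_le fun W hW => le_cen_symm (iSup₂_le fun W' hW' => by
    obtain ⟨n, f, h1, rfl, rfl⟩ := Reach.walk (hW.symm.trans hW') (hW'.mv hV)
    exact hs n n le_rfl f h1)
  have c2 : A ≤ om A := iSup₂_le fun W hW x hx => ⟨hA W hW hx, c1 (hA W hW hx), (hW.mv hV).el x hx⟩
  have c3 : IsPGroup 2 A := el_two fun x hx => (c2 hx).2.2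
  have c4 : A ≠ ⊥ := fun e => hV.ne (le_bot_iff.1 (e ▸ hA V Relation.ReflTransGen.refl))
  have c5 : ∀ g, Reach V (conjS g V) → g ∈ Nor A := fun g hg => mem_normalizer_of_conjS_le (by
    rw [map_le_iff_le_comap]
    exact iSup₂_le fun W hW => map_le_iff_le_comap.1 (hA _ (hg.trans (hW.conj g))))
  have c6 : ∀ W, Reach V W → Nor W = Nor A := fun W hW => by
    have : Nor W ≤ Nor A := fun g hg => c5 g (hW.trans (by
      have := hW.symm.conj g
      rwa [mem_normalizer_iff_conjS.1 hg] at this))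
    exact le_antisymm this ((hW.mv hV).mx A c3 c4 this)
  have c7 := c6 V Relation.ReflTransGen.refl
  exact ⟨(c6 W h').trans c7.symm, fun e => c7.ge (c5 g (e ▸ h))⟩

theorem MV.nor_le (hs : ∀ c, Short G c) (hV : MV V) (hT : IsSylowOf 2 T (Nor V)) : Nor T ≤ Nor V :=
  fun g hg => (nor_of_short hs hV (Relation.ReflTransGen.single ⟨hV, hV.conj g, T, hT, by
    have := syl_conj hT g
    rwa [mem_normalizer_iff_conjS.1 hg, conj_nor] at this⟩) Relation.ReflTransGen.refl).2 rfl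

theorem MV.syl_top (hs : ∀ c, Short G c) (hV : MV V) (hT : IsSylowOf 2 T (Nor V)) :
    IsSylowOf 2 T ⊤ :=
  IsSylowOf.of_normalizer (hT.of_le (le_inf le_top le_normalizer) (inf_le_right.trans (hV.nor_le hs hT)))

/-- the subgroup attached to a Sylow 2-subgroup -/
def fm (S : Subgroup G) : Subgroup G := Nor S ⊔ ⨆ (V : Subgroup G) (_ : MV V ∧ S ≤ Nor V), Nor V

theorem fm_conj_le (g : G) (S : Subgroup G) : conjS g (fm S) ≤ fm (conjS g S) := by
  rw [fm, conjS_sup, conj_nor]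
  refine sup_le_sup_left ?_ _
  rw [map_le_iff_le_comap]
  refine iSup₂_le fun V hV => map_le_iff_le_comap.1 (le_iSup₂_of_le (conjS g V)
    ⟨hV.1.conj g, conj_nor g V ▸ conjS_mono g hV.2⟩ (conj_nor g V).le)

theorem fm_conj (g : G) (S : Subgroup G) : conjS g (fm S) = fm (conjS g S) :=
  le_antisymm (fm_conj_le g S) (by
    have := conjS_mono g (fm_conj_le g⁻¹ (conjS g S))
    rwa [conjS_conjS_inv, conjS_inv_conjS] at this)

theorem fm_eq (hs : ∀ c, Short G c) (hV : MV V) (hT : IsSylowOf 2 T (Nor V)) : fm T = Nor V := by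
  refine le_antisymm (sup_le (hV.nor_le hs hT) (iSup₂_le fun W hW => ?_))
    (le_sup_of_le_right (le_iSup₂_of_le V ⟨hV, hT.le⟩ le_rfl))
  have : Reach V W :=
    Relation.ReflTransGen.single ⟨hV, hW.1, T, hT, (hV.syl_top hs hT).of_le hW.2 le_top⟩
  exact (nor_of_short (g := 1) hs hV (by rwa [conjS_one]) this).1.le

theorem exists_max (hc : IsCIT G) (hD : IsPGroup 2 D) (h0 : D ≠ ⊥) :
    ∃ V : Subgroup G, Nor D ≤ Nor V ∧ (MV V ∨ IsSylowOf 2 (Cen V) (Nor V)) := by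
  obtain ⟨H, h1, ⟨E, e1, e2, rfl⟩, h3⟩ := (Set.toFinite
    {H : Subgroup G | ∃ E : Subgroup G, IsPGroup 2 E ∧ E ≠ ⊥ ∧ Nor E = H}).exists_le_maximal
    (a := Nor D) ⟨D, hD, h0, rfl⟩
  have q1 : E ≤ pCoreIn 2 (Nor E) := le_pCoreIn le_normalizer le_rfl e1
  have q2 := isPGroup_pCoreIn 2 (Nor E)
  generalize hQ : pCoreIn 2 (Nor E) = Q at *
  have v1 : ∀ x ∈ om Q, x * x = 1 := fun x hx => hx.2.2
  have v2 : om Q ≠ ⊥ := fun e => by
    obtain ⟨z, hz, z1, z2, z3⟩ := H7.exists_fixed_order_p q2 q2 le_normalizer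
      fun e => e2 (le_bot_iff.1 (e ▸ q1))
    exact z1 (mem_bot.1 (e.le ⟨hz, cen.2 fun x hx => (z3 x (mem_sup_left hx)).symm, by rwa [← sq]⟩))
  have v3 : Nor E ≤ Nor (om Q) := (hQ ▸ le_normalizer_pCoreIn 2 (Nor E)).trans (nor_om Q)
  have v4 : Nor (om Q) = Nor E := le_antisymm (h3 ⟨_, el_two v1, v2, rfl⟩ v3) v3
  have v5 : Cen (om Q) = Q := le_antisymm
    (hQ ▸ le_pCoreIn ((cen_le_nor _).trans (hQ ▸ v4.le)) (hQ ▸ ncen v3) (hQ ▸ hc.cen (el_two v1) v2))
    (le_cen_symm fun x hx => hx.2.1)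
  refine ⟨om Q, h1.trans v3, or_iff_not_imp_right.2 fun hn => ⟨⟨v1, fun x a b c => ?_, ?_, v2⟩,
    fun D a b c => ?_, hn⟩⟩
  · rw [v5] at a b; exact ⟨a, b, c⟩
  · rw [v4, v5, hQ]
  · rw [v4] at c ⊢; exact h3 ⟨D, a, b, rfl⟩ c

theorem fm_eq_of_le (hc : IsCIT G) (hs : ∀ c, Short G c) (D : Subgroup G) : D ≠ ⊥ →
    ∀ S S' : Subgroup G, IsSylowOf 2 S ⊤ → IsSylowOf 2 S' ⊤ → D ≤ S → D ≤ S' → fm S = fm S' := by
  induction D using WellFoundedGT.induction with
  | ind D ih =>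
  intro h0 S S' hS hS' l l'
  rcases l.eq_or_lt with rfl | l
  · rw [hS.eq_of_le hS'.isPGroup l' le_top]
  rcases l'.eq_or_lt with rfl | l'
  · rw [hS'.eq_of_le hS.isPGroup l.le le_top]
  obtain ⟨V, hV, h⟩ := exists_max hc (hS.isPGroup.to_le l.le) h0
  have key : ∃ M, ∀ S, IsSylowOf 2 S ⊤ → D < S → fm S = M := by
    have aux : ∀ S S', IsSylowOf 2 S ⊤ → D < S → IsSylowOf 2 S' ⊤ → S ⊓ Nor D ≤ S' → fm S = fm S' :=
      fun S S' hS l hS' l' =>
        have := lt_inf_normalizer_of_isPGroup hS.isPGroup l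
        ih _ this (fun e => h0 (le_bot_iff.1 (e ▸ this.le))) S S' hS hS' inf_le_left l'
    rcases h with h | h
    · refine ⟨Nor V, fun S hS l => ?_⟩
      obtain ⟨T, t1, t2⟩ := exists_isSylowOf_ge (hS.isPGroup.to_le inf_le_left)
        (inf_le_right.trans hV : S ⊓ Nor D ≤ _)
      rw [aux S T hS l (h.syl_top hs t1) t2, fm_eq hs h t1]
    · obtain ⟨T, t1, t2⟩ := exists_isSylowOf_ge h.isPGroup le_top
      exact ⟨fm T, fun S hS l => aux S T hS l t1 ((h.le_of_le_normalizer'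
        (hS.isPGroup.to_le inf_le_left) (inf_le_right.trans hV)
        ((inf_le_right.trans hV).trans (nor_le_ncen V))).trans t2)⟩
  obtain ⟨M, hM⟩ := key
  rw [hM S hS l, hM S' hS' l']

theorem nor_ne_top [IsSimpleGroup G] (hG : ¬ IsMulCommutative G) (hD : IsPGroup 2 D) (h0 : D ≠ ⊥) :
    Nor D ≠ ⊤ := fun e => by
  rcases (normalizer_eq_top_iff.1 e).eq_bot_or_eq_top with h | h
  · exact h0 h
  · subst h
    have := (hD.of_equiv topEquiv).isNilpotent
    exact hG (IsSimpleGroup.comm_iff_isSolvable.2 inferInstance |> fun c => ⟨⟨c⟩⟩)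

theorem se_of_short [IsSimpleGroup G] (hG : ¬ IsMulCommutative G) (h2 : 2 ∣ Nat.card G)
    (hc : IsCIT G) (hs : ∀ c, Short G c) : ∃ M : Subgroup G, IsStronglyEmbedded M := by
  obtain ⟨S, hS⟩ := exists_isSylowOf 2 (⊤ : Subgroup G)
  have h0 : S ≠ ⊥ := hS.ne_bot (by rwa [card_top])
  have l1 : S ≤ fm S := le_normalizer.trans le_sup_left
  have hM := hS.of_le l1 le_top
  refine ⟨fm S, ?_, ?_, fun g hg => ?_⟩
  · by_cases e : ∃ V : Subgroup G, MV V ∧ S ≤ Nor V
    · obtain ⟨V, h1, h2⟩ := e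
      rw [fm_eq hs h1 (hS.of_le h2 le_top)]
      exact nor_ne_top hG (el_two h1.el) h1.ne
    · refine fun e' => nor_ne_top hG hS.isPGroup h0 (top_le_iff.1 (e'.ge.trans ?_))
      exact sup_le le_rfl (iSup₂_le fun V hV => (e ⟨V, hV⟩).elim)
  · obtain ⟨z, hz, z1, z2, -⟩ := H7.exists_fixed_order_p hS.isPGroup hS.isPGroup le_normalizer h0
    exact even_iff_two_dvd.2 (orderOf_eq_two' (by rwa [← sq]) z1 ▸ orderOf_dvd_natCard _ (l1 hz))
  by_contra hodd
  obtain ⟨t, ht, ho⟩ := exists_orderOf_eq_prime_mem (p := 2)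
    (even_iff_two_dvd.mp (Nat.not_odd_iff_even.mp hodd))
  have top : ∀ g : G, IsSylowOf 2 (conjS g S) ⊤ := fun g => hS.map_conj (le_normalizer (mem_top g))
  obtain ⟨k, hk, e1⟩ := hM.exists_conj_le (two_zp ho) (zpowers_le.2 ht.1)
  obtain ⟨k', hk', e2⟩ := (syl_conj hM g).exists_conj_le (two_zp ho) (zpowers_le.2 ht.2)
  have := fm_eq_of_le hc hs (zpowers t) (zpowers_ne_bot.2 (ine ho)) _ _ (top k⁻¹) (top (k'⁻¹ * g))
    (by rwa [← conjS_le_conjS_iff k, conjS_conjS_inv])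
    (by rwa [← conjS_le_conjS_iff k', ← conjS_conjS, conjS_conjS_inv])
  rw [← fm_conj, ← fm_conj, ← conjS_conjS, conjS_eq_of_mem (inv_mem hk),
    conjS_eq_of_mem (inv_mem hk')] at this
  obtain ⟨n, hn, e⟩ := hM.frattini (mem_normalizer_iff_conjS.2 this.symm)
  exact hg (by simpa using mul_mem hn ((le_sup_left : Nor S ≤ fm S) e))

end CIT
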