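import Cfsg.Agent.CIT.A4
import Cfsg.Agent.BS.Ch2a

/-! CIT groups: the amalgam with `b = 1`. -/

set_option autoImplicit false
set_option linter.unusedVariables false
set_option linter.unusedSectionVars false

namespace CIT

open Cfsg Subgroup FT H4 H5 GW

variable {G : Type*} [Group G] [Finite G] {V W K T : Subgroup G} {k x y a v g r n m t w w' : G}

theorem IsCIT.two_of_sq (h : IsCIT G) (h1 : y ∉ K) (h2 : y * y ∈ K) : IsPGroup 2 (zpowers y) := by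
  obtain ⟨u, hu, o, ho, e, ⟨j, hj⟩, hc⟩ := exists_pPart 2 y
  have od := odd_iff_cop.2 hc
  have sq : ∀ z ∈ zpowers y, z * z ∈ K := by
    rintro _ ⟨i, rfl⟩
    have := zpow_mem h2 i
    rwa [(Commute.refl y).mul_zpow] at this
  have u1 : u ≠ 1 := fun e' => h1 (by rw [e, e', one_mul]; exact GW.mem_of_sq_mem od (sq o ho))
  have c : o ∈ Cen1 u := by
    obtain ⟨i, rfl⟩ := hu
    obtain ⟨i', rfl⟩ := ho
    exact c1.2 (zpow_mul_comm _ _ _)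
  obtain ⟨l, hl⟩ := isPGroup_iff_forall.1
    (h.cen1 (isPGroup_zpowers_of_pow hj) (mem_zpowers u) u1) o c
  have : o = 1 := orderOf_eq_one_iff.1
    (Nat.Coprime.eq_one_of_dvd (hc.pow_right l) (orderOf_dvd_of_pow_eq_one hl))
  rw [e, this, mul_one]
  exact isPGroup_zpowers_of_pow hj

/-- an involution interchanging two axes -/
structure Sw (V W : Subgroup G) (w : G) : Prop where
  nor : w ∈ Nor V
  sq : w * w = 1
  dis : V ⊓ W ⊓ conjS w W = ⊥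

theorem Sw.ww (s : Sw V W w) (x : G) : w * (w * x * w⁻¹) * w⁻¹ = x := by
  calc _ = w * w * x * (w * w)⁻¹ := by group
    _ = x := by rw [s.sq]; group

theorem Sw.inv (s : Sw V W w) : w⁻¹ = w := inv_eq_of_mul_eq_one_right s.sq

theorem Sw.mem (s : Sw V W w) (hx : x ∈ V ⊓ W) : w * x * w⁻¹ ∈ V ⊓ conjS w W :=
  ⟨cmem s.nor hx.1, conj_mem_conjS hx.2⟩

theorem Sw.mem' (s : Sw V W w) (hx : x ∈ V) (h : x ∈ conjS w W) : w * x * w⁻¹ ∈ V ⊓ W :=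
  ⟨cmem s.nor hx, by have := mem_conjS.1 h; rwa [s.inv] at this ⊢⟩

theorem Sw.not_mem (s : Sw V W w) (hx : x ∈ V ⊓ W) (x1 : x ≠ 1) : w * x * w⁻¹ ∉ W :=
  CP.not_mem s.dis (s.mem hx) (by simpa using x1)

theorem CP.exists_sw (h : CP V W) : ∃ w, Sw V W w := by
  obtain ⟨g, hg, hd⟩ := h.exists_conj
  have h' := h.conj' hg
  obtain ⟨w, hw, w1⟩ := h'.exists_W
  have w2 := h'.r.el w hw
  refine ⟨w, h'.nV hw, w2, eq_bot_iff.2 fun x hx => mem_bot.2 (by_contra fun x1 => ?_)⟩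
  have e : w ∈ Nor (V ⊓ W) := by
    rw [mem_normalizer_iff_conjS, CP.conj_inf (h'.nV hw)]
    exact (h.conj' (h'.nV hw)).ti h hx.1.1 hx.2 hx.1.2 x1
  obtain ⟨z, hz, z1, -, z3⟩ := H7.exists_fixed_order_p ((el_two h.l.el).to_le inf_le_left)
    ((el_two h'.r.el).to_le (zpowers_le.2 hw)) (zpowers_le.2 e) h.R_ne
  exact z1 (mem_bot.1 (hd.le ⟨hz, (h'.ns hz.1 hw
    (z3 w (mem_sup_right (mem_zpowers w))).symm).resolve_right w1⟩))

namespace Pair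

theorem symm (h : Pair V W) : Pair W V := ⟨h.toCP.symm, h.cW, h.cV⟩

theorem syl' (h : Pair V W) : IsSylowOf 2 (V ⊔ W) (Nor V) := by
  have := h.toCP.syl
  rwa [h.cV, sup_comm] at this

theorem syl'' (h : Pair V W) : IsSylowOf 2 (V ⊔ W) (Nor W) := sup_comm W V ▸ h.symm.syl'

theorem memT (h : Pair V W) : t ∈ V ⊔ W ↔ ∃ v ∈ V, ∃ a ∈ W, v * a = t :=
  mem_sup_of_le_normalizer_left h.nV

theorem T_cen' (h : Pair V W) : V ⊔ W ≤ Cen (V ⊓ W) := by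
  have := h.toCP.T_cen
  rwa [h.cV, sup_comm] at this

theorem T_comm' (h : Pair V W) (ht : t ∈ V ⊔ W) (hv : v ∈ V) : t * v * t⁻¹ * v⁻¹ ∈ V ⊓ W :=
  h.toCP.T_comm (by rwa [h.cV, sup_comm]) hv

theorem fixR (h : Pair V W) (ht : t ∈ V ⊔ W) (hx : x ∈ V ⊓ W) : t * x * t⁻¹ = x := by
  rw [cen.1 (h.T_cen' ht) x hx]; group

theorem invT (h : Pair V W) (ht : t ∈ V ⊔ W) (h2 : t * t = 1) : t ∈ V ∨ t ∈ W := by
  obtain ⟨v, hv, a, ha, rfl⟩ := h.memT.1 ht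
  have : v * a = a * v := by
    have := inv_eq_of_mul_eq_one_right h2
    rw [mul_inv_rev, el_inv h.l.el hv, el_inv h.r.el ha] at this
    exact this.symm
  exact (h.ns hv ha this).symm.imp (mul_mem hv) fun e => mul_mem e ha

theorem norW (h : Pair V W) (h1 : n ∈ Nor V) (h2 : n ∈ Nor (V ⊓ W)) : n ∈ Nor W := by
  have e : Nor V ⊓ Cen (V ⊓ W) = V ⊔ W := by rw [h.toCP.cenR, h.cV, sup_comm]
  have h3 : n ∈ Nor (V ⊔ W) := e ▸ minf (le_normalizer h1) (mcen h2)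
  refine mnor fun a ha => ?_
  by_cases a1 : a ∈ V
  · exact (cmem h2 ⟨a1, ha⟩).2
  · refine (h.invT (cmem h3 (mem_sup_right ha)) ?_).resolve_left fun e => a1 ?_
    · rw [conj_mul, h.r.el a ha]; group
    · simpa [mul_assoc] using cmem' h1 e

theorem cen1_eq (h : Pair V W) (hx : x ∈ V ⊓ W) (x1 : x ≠ 1) : Nor V ⊓ Cen1 x = V ⊔ W :=
  h.syl'.eq_of_le ((h.cit.inv (h.l.el x hx.1) x1).to_le inf_le_right)
    (le_inf h.syl'.le fun t ht => c1'.2 (h.fixR ht hx)) inf_le_left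

/-- `w` inverts the two point stabilizer -/
theorem inverts (h : Pair V W) (s : Sw V W w) (h1 : k ∈ Nor V) (h2 : k ∈ Nor (V ⊓ W))
    (h3 : k ∈ Nor (V ⊓ conjS w W)) : w * k * (w * k) ∈ V := by
  have e1 : conjS w (V ⊓ W) = V ⊓ conjS w W := CP.conj_inf s.nor W
  have e2 : conjS w (V ⊓ conjS w W) = V ⊓ W := by rw [← e1, conjS_conjS, s.sq, conjS_one]
  have m1 : w * k * (w * k) ∈ Nor (V ⊓ W) := by
    rw [mem_normalizer_iff_conjS, ← conjS_conjS, ← conjS_conjS, ← conjS_conjS,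
      mem_normalizer_iff_conjS.1 h2, e1, mem_normalizer_iff_conjS.1 h3, e2]
  have m2 : w * k * (w * k) ∈ Nor (V ⊓ conjS w W) := by
    rw [mem_normalizer_iff_conjS, ← conjS_conjS, ← conjS_conjS, ← conjS_conjS,
      mem_normalizer_iff_conjS.1 h3, e2, mem_normalizer_iff_conjS.1 h2, e1]
  have m3 : w * k ∉ Nor (V ⊓ W) := fun e => by
    obtain ⟨x, hx, x1⟩ := h.toCP.exists_R
    exact s.not_mem hx x1 (cmem (by simpa using mul_mem e (inv_mem h2)) hx).2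
  have m4 := (h.cit.two_of_sq m3 m1).to_le
    (zpowers_le.2 (mul_mem (mem_zpowers _) (mem_zpowers _)) : zpowers (w * k * (w * k)) ≤ _)
  exact h.cV ▸ h.toCP.two_le (h.toCP.conj' s.nor) s.dis m4
    (zpowers_le.2 (mul_mem (mul_mem s.nor h1) (mul_mem s.nor h1))) (zpowers_le.2 m1)
    (zpowers_le.2 m2) (mem_zpowers _)

theorem inverts' (h : Pair V W) (s : Sw V W w) (h1 : k ∈ Nor V) (h2 : k ∈ Nor (V ⊓ W))
    (h3 : k ∈ Nor (V ⊓ conjS w W)) (hx : x ∈ V) :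
    k * (w * x * w⁻¹) * k⁻¹ = w * (k⁻¹ * x * k) * w⁻¹ := by
  have := el_comm h.l.el (h.inverts s h1 h2 h3) (cmem' h1 hx)
  calc _ = w⁻¹ * (w * k * (w * k) * (k⁻¹ * x * k)) * (w * k * (w * k))⁻¹ * w := by group
    _ = w⁻¹ * (k⁻¹ * x * k) * w := by rw [this]; group
    _ = _ := by rw [s.inv]

theorem dec (h : Pair V W) (s : Sw V W w) (h1 : n ∈ Nor V) (h2 : n ∈ Nor W) :
    ∃ a ∈ W, ∃ k ∈ Nor V, k ∈ Nor (V ⊓ W) ∧ k ∈ Nor (V ⊓ conjS w W) ∧ n = a * k := by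
  obtain ⟨a, ha, e⟩ := h.toCP.borel (h.toCP.conj' s.nor) s.dis h1 (minf h1 h2)
  exact ⟨a⁻¹, inv_mem ha, a * n, mul_mem (h.nV ha) h1, mul_mem (h.toCP.W_nor ha) (minf h1 h2), e,
    by group⟩

theorem twist (h : Pair V W) (s : Sw V W w) (h1 : n ∈ Nor V) (h2 : n ∈ Nor W) (hx : x ∈ V ⊓ W) :
    ∃ r ∈ V ⊓ W, n * (w * x * w⁻¹) * n⁻¹ = r * (w * (n⁻¹ * x * n) * w⁻¹) := by
  obtain ⟨a, ha, k, k1, k2, k3, rfl⟩ := h.dec s h1 h2
  obtain ⟨r, hr, e⟩ := h.toCP.conj_mul (cmem s.nor (cmem' k1 hx.1)) ha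
  refine ⟨r, hr, ?_⟩
  have e1 := h.fixR (mem_sup_right (inv_mem ha)) hx
  calc _ = a * (k * (w * x * w⁻¹) * k⁻¹) * a⁻¹ := by group
    _ = r * (w * (k⁻¹ * (a⁻¹ * x * a⁻¹⁻¹) * k) * w⁻¹) := by rw [h.inverts' s k1 k2 k3 hx.1, e, e1]
    _ = _ := by group

theorem abel (h : Pair V W) (h1 : n ∈ Nor V) (h2 : n ∈ Nor W) (h3 : m ∈ Nor V) (h4 : m ∈ Nor W)
    (hx : x ∈ V ⊓ W) : n * (m * x * m⁻¹) * n⁻¹ = m * (n * x * n⁻¹) * m⁻¹ := by
  obtain ⟨w, s⟩ := h.toCP.exists_sw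
  obtain ⟨a, ha, k, k1, k2, k3, rfl⟩ := h.dec s h1 h2
  obtain ⟨b, hb, l, l1, l2, l3, rfl⟩ := h.dec s h3 h4
  have f : ∀ {a k x : G}, a ∈ W → k ∈ Nor (V ⊓ W) → x ∈ V ⊓ W → a * k * x * (a * k)⁻¹ = k * x * k⁻¹ :=
    fun {a k x} ha hk hx => by
      rw [← h.fixR (mem_sup_right ha) (cmem hk hx)]; group
  rw [f hb l2 hx, f ha k2 hx, f ha k2 (cmem l2 hx), f hb l2 (cmem k2 hx)]
  have e1 := h.inverts' s (mul_mem k1 l1) (mul_mem k2 l2) (mul_mem k3 l3) (cmem s.nor hx.1)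
  have e4 := h.inverts' s l1 l2 l3 (cmem' k1 (cmem s.nor hx.1))
  have e5 := h.inverts' s k1 k2 k3 (cmem s.nor hx.1)
  rw [s.ww] at e1 e5
  rw [e5, e4]
  calc _ = k * l * x * (k * l)⁻¹ := by group
    _ = _ := by rw [e1]; group

/-- the commutator maps are induced by the Borel subgroup -/
theorem lin (h : Pair V W) (s : Sw V W w) (ha : a ∈ W) (a1 : a ∉ V) :
    ∃ n ∈ Nor V, n ∈ Nor W ∧ ∀ x ∈ V ⊓ W,
      a * (w * x * w⁻¹) * a⁻¹ * (w * x * w⁻¹)⁻¹ = n * x * n⁻¹ := by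
  have h' := h.toCP.conj' s.nor
  have γ : ∀ x ∈ V ⊓ W, ∃ c ∈ V ⊓ W, a * (w * x * w⁻¹) * a⁻¹ = c * (w * x * w⁻¹) :=
    fun x hx => h.toCP.conj_mul (s.mem hx).1 ha
  have e0 : ∀ {x c : G}, a * (w * x * w⁻¹) * a⁻¹ = c * (w * x * w⁻¹) →
      w * a * w * x * (w * a * w)⁻¹ = w * c * w⁻¹ * x := fun {x c} e => by
    calc _ = w * (a * (w * x * w⁻¹) * a⁻¹) * w⁻¹ := by group
      _ = w * c * w⁻¹ * (w * (w * x * w⁻¹) * w⁻¹) := by rw [e]; group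
      _ = _ := by rw [s.ww]
  obtain ⟨r, hr, r1⟩ := h.toCP.exists_R
  obtain ⟨c, hc, e⟩ := γ r hr
  have c1 : c ≠ 1 := fun e' => by
    rw [e', one_mul, mul_inv_eq_iff_eq_mul] at e
    exact (h.ns (s.mem hr).1 ha e.symm).elim (s.not_mem hr r1) a1
  obtain ⟨b, hb, eb⟩ := h.toCP.cover h' s.dis (mul_mem (s.mem hc).1 hr.1) fun e' =>
    s.not_mem hc c1 (by simpa using mul_mem e' (inv_mem hr.2))
  have n1 : w * b * (w * a * w) ∈ Nor V :=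
    mul_mem (mul_mem s.nor (h.nV hb)) (mul_mem (mul_mem s.nor (h.nV ha)) s.nor)
  have n2 : w * b * (w * a * w) ∈ Nor (V ⊓ W) := h.toCP.nor_of n1 hr r1 (by
    have := (mem_inf.1 (s.mem' (cmem (h.nV hb) (mul_mem (s.mem hc).1 hr.1)) eb)).2
    rw [← e0 e] at this
    simpa only [mul_assoc, mul_inv_rev] using this)
  refine ⟨_, n1, h.norW n1 n2, fun x hx => ?_⟩
  obtain ⟨d, hd, ed⟩ := γ x hx
  obtain ⟨d', hd', ed'⟩ := h.toCP.conj_mul (s.mem hd).1 hb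
  have e1 : w * b * (w * a * w) * x * (w * b * (w * a * w))⁻¹ = w * (d' * x) * w⁻¹ * d := by
    calc _ = w * (b * (w * a * w * x * (w * a * w)⁻¹) * b⁻¹) * w⁻¹ := by group
      _ = w * (b * (w * d * w⁻¹) * b⁻¹ * (b * x * b⁻¹)) * w⁻¹ := by rw [e0 ed]; group
      _ = w * (d' * (w * d * w⁻¹ * x)) * w⁻¹ := by
        rw [ed', h.fixR (mem_sup_right hb) hx]; group
      _ = w * (d' * x) * w⁻¹ * (w * (w * d * w⁻¹) * w⁻¹) := by
        rw [el_comm h.l.el (s.mem hd).1 hx.1]; group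
      _ = _ := by rw [s.ww]
  have e2 : d' * x = 1 := by
    by_contra hne
    have := (mem_inf.1 (cmem n2 hx)).2
    rw [e1] at this
    exact s.not_mem (mul_mem hd' hx) hne (by simpa using W.mul_mem this (W.inv_mem hd.2))
  rw [e1, e2, ed]; group

theorem trans (h : Pair V W) (hx : x ∈ V ⊓ W) (x1 : x ≠ 1) (hy : y ∈ V ⊓ W) (y1 : y ≠ 1) :
    ∃ n ∈ Nor V ⊓ Nor W, n * x * n⁻¹ = y := by
  obtain ⟨w, s⟩ := h.toCP.exists_sw
  obtain ⟨a, ha, e⟩ := h.toCP.onto (s.mem hx).1 (s.not_mem hx x1) hy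
  obtain ⟨n, n1, n2, e'⟩ := h.lin s ha fun a1 => y1 (by
    rw [el_comm h.l.el a1 (s.mem hx).1] at e
    simpa using e.symm)
  exact ⟨n, ⟨n1, n2⟩, by rw [← e' x hx, e]; group⟩

theorem cube (h : Pair V W) (h1 : n ∈ Nor V) (h2 : n ∈ Nor W) : n ^ 3 ∈ V ⊔ W := by
  obtain ⟨w, s⟩ := h.toCP.exists_sw
  obtain ⟨u, s'⟩ := h.symm.toCP.exists_sw
  obtain ⟨x, hx, x1⟩ := h.toCP.exists_R
  have sy : ∀ {x : G}, x ∈ V ⊓ W → x ∈ W ⊓ V := fun hx => ⟨hx.2, hx.1⟩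
  let β : G → G → G := fun x y => u * y * u⁻¹ * (w * x * w⁻¹) * (u * y * u⁻¹)⁻¹ * (w * x * w⁻¹)⁻¹
  have m : ∀ x ∈ V ⊓ W, ∀ y ∈ V ⊓ W, β x y ∈ V ⊓ W := fun x hx y hy =>
    h.T_comm' (mem_sup_right (s'.mem (sy hy)).1) (s.mem hx).1
  have i1 := inv_mem h1
  have i2 := inv_mem h2
  have hx' : n⁻¹ * x * n ∈ V ⊓ W := cmem' (minf h1 h2) hx
  have x1' : n⁻¹ * x * n ≠ 1 := fun e => x1 (by simpa [mul_assoc] using congrArg (n * · * n⁻¹) e)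
  have L1 : β (n⁻¹ * x * n) (n⁻¹ * x * n) = n⁻¹ * β x (n⁻¹ * x * n) * n := by
    obtain ⟨m, m1, m2, e⟩ := h.lin s (s'.mem (sy hx')).1 (s'.not_mem (sy hx') x1')
    have := h.abel m1 m2 i1 i2 hx
    rw [inv_inv] at this
    simp only [β]
    rw [e _ hx', e _ hx, this]
  have L2 : β x (n⁻¹ * x * n) = n⁻¹ * β x x * n := by
    obtain ⟨m, m1, m2, e⟩ := h.symm.lin s' (s.mem hx).1 (s.not_mem hx x1)
    have := h.abel m2 m1 i1 i2 hx
    rw [inv_inv] at this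
    have f : ∀ y ∈ V ⊓ W, β x y = (m * y * m⁻¹)⁻¹ := fun y hy => by
      rw [← e y (sy hy)]; simp only [β]; group
    rw [f _ hx', f _ hx, this]; group
  have E : n * β x x * n⁻¹ = β (n⁻¹ * x * n) (n⁻¹ * x * n) := by
    obtain ⟨r, hr, e⟩ := h.twist s h1 h2 hx
    obtain ⟨r', hr', e'⟩ := h.symm.twist s' h2 h1 (sy hx)
    have a1 := (s'.mem (sy hx')).1
    have a2 := (s.mem hx').1
    calc _ = n * (u * x * u⁻¹) * n⁻¹ * (n * (w * x * w⁻¹) * n⁻¹) * (n * (u * x * u⁻¹) * n⁻¹)⁻¹ *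
        (n * (w * x * w⁻¹) * n⁻¹)⁻¹ := by simp only [β]; group
      _ = _ := by
        rw [e, e']
        simp only [β]
        generalize u * (n⁻¹ * x * n) * u⁻¹ = a at *
        generalize w * (n⁻¹ * x * n) * w⁻¹ = v at *
        have c1 := h.fixR (mem_sup_right a1) hr
        have c2 := el_comm h.l.el hr'.2 (cmem (h.nV a1) (mul_mem hr.1 a2))
        have c3 := el_comm h.l.el hr.1 (mul_mem (cmem (h.nV a1) a2) (inv_mem a2))
        calc _ = r' * (a * (r * v) * a⁻¹) * r'⁻¹ * v⁻¹ * r⁻¹ := by group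
          _ = a * r * a⁻¹ * (a * v * a⁻¹ * v⁻¹) * r⁻¹ := by rw [c2]; group
          _ = _ := by rw [c1, c3]; group
  have b1 : β x x ≠ 1 := fun e => by
    have : u * x * u⁻¹ * (w * x * w⁻¹) = w * x * w⁻¹ * (u * x * u⁻¹) := by
      rw [← mul_inv_eq_one, ← e]; simp only [β]; group
    exact (h.ns (s.mem hx).1 (s'.mem (sy hx)).1 this.symm).elim (s.not_mem hx x1)
      (s'.not_mem (sy hx) x1)
  refine (h.cen1_eq (m x hx x hx) b1).le ⟨pow_mem h1 3, c1'.2 ?_⟩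
  rw [L1, L2] at E
  calc _ = n * n * (n * β x x * n⁻¹) * n⁻¹ * n⁻¹ := by rw [pow_three']; group
    _ = _ := by rw [E]; group

end Pair

end CIT
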