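import Cfsg.Agent.CIT.A5
import Cfsg.Agent.GW.L4
import Cfsg.Agent.H5.Dich2

/-! CIT groups: the amalgam has `q ≤ 4`. -/

set_option autoImplicit false
set_option linter.unusedVariables false
set_option linter.unusedSectionVars false

namespace CIT

open Cfsg Subgroup FT H4 H5 GW

variable {G : Type*} [Group G] [Finite G] {V W K T E L Y S : Subgroup G} {k x y a v g r n s z : G}

theorem card_orb (hx : x ∈ Y) (x1 : x ≠ 1) (hn : L ≤ Nor Y)
    (ht : ∀ y ∈ Y, y ≠ 1 → ∃ g ∈ L, g * x * g⁻¹ = y) (hT : L ⊓ Cen1 x = T) :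
    T.relIndex L + 1 = Nat.card Y := by
  rw [← BS.ncard_sharp, ← hT, inf_comm, inf_relIndex_right, ← BS.ncard_conj]
  congr 2
  ext y
  refine ⟨?_, fun hy => ht y hy.1 hy.2⟩
  rintro ⟨g, hg, rfl⟩
  exact ⟨cmem (hn hg) hx, by simpa using x1⟩

theorem pow_two_eq {s m : ℕ} (h : 3 ^ m + 1 = 2 ^ s) : 2 ^ s = 2 ∨ 2 ^ s = 4 := by
  have h1 : 3 ^ m % 8 = 1 ∨ 3 ^ m % 8 = 3 := by
    clear h
    induction m with
    | zero => simp
    | succ m ih => rw [pow_succ]; omega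
  have h2 : 0 < 3 ^ m := by positivity
  match s with
  | 0 => omega
  | 1 => omega
  | 2 => omega
  | s + 3 => rw [pow_add] at h; omega

theorem F4.eq_V {t a : G} (h : F4 t a) (h1 : t ∈ Y) (h2 : a ∈ Y) (h4 : Nat.card Y = 4) :
    V4 t a = Y := eq_of_le_of_card_ge (V_le h1 h2) (by rw [h4, h.card_V])

theorem rank_of_cyc (hS : IsSylowOf 2 S ⊤)
    (h : Nat.card S = 4 ∨ ∃ a ∈ S, (zpowers a).relIndex S = 2) : PRankLE 2 2 G := fun A _ hA => by
  have el : ∀ x ∈ A, x * x = 1 := fun x hx => by rw [← sq, hA x hx]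
  obtain ⟨g, -, hg⟩ := hS.exists_conj_le (el_two el) le_top
  have el' : ∀ x ∈ conjS g A, x * x = 1 := by
    rintro _ ⟨x, hx, rfl⟩
    rw [← map_mul, el x hx, map_one]
  rw [← card_conjS g]
  rcases h with h | ⟨a, ha, h⟩
  · exact (card_le_of_le hg).trans h.le
  have h1 := card_inf_mul_relIndex (zpowers a) (conjS g A)
  have h2 := relIndex_le_of_le_right (H := zpowers a) hg (by omega)
  have h3 : Nat.card ↥(zpowers a ⊓ conjS g A) ≤ 2 := by
    by_cases e : zpowers a ⊓ conjS g A = ⊥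
    · rw [e, card_bot]; omega
    · obtain ⟨u, hu, u1⟩ := SetLike.not_le_iff_exists.1 fun e' => e (le_bot_iff.1 e')
      have o := orderOf_eq_two' (el' u hu.2) (by simpa using u1)
      rw [← o, ← Nat.card_zpowers]
      refine card_le_of_le fun y hy => ?_
      by_cases y1 : y = 1
      · exact y1 ▸ one_mem _
      · exact inv_uniq hy.1 hu.1 (orderOf_eq_two' (el' y hy.2) y1) o ▸ mem_zpowers _
  rw [← h1]
  exact Nat.mul_le_mul h3 (h2.trans h.le)

namespace Pair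

theorem T_le_B (h : Pair V W) : V ⊔ W ≤ Nor V ⊓ Nor W := le_inf h.syl'.le h.syl''.le

theorem sylB (h : Pair V W) : IsSylowOf 2 (V ⊔ W) (Nor V ⊓ Nor W) :=
  h.syl'.of_le h.T_le_B inf_le_left

theorem B_nor (h : Pair V W) : Nor V ⊓ Nor W ≤ Nor (V ⊔ W) := nsup inf_le_left inf_le_right

theorem relB (h : Pair V W) : (V ⊔ W).relIndex (Nor V ⊓ Nor W) + 1 = Nat.card ↥(V ⊓ W) := by
  obtain ⟨x, hx, x1⟩ := h.toCP.exists_R
  refine card_orb hx x1 (ninf inf_le_left inf_le_right) (fun y => h.trans hx x1) ?_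
  rw [inf_right_comm, h.cen1_eq hx x1, inf_eq_left.2 h.syl''.le]

theorem cov (h : Pair V W) (hv : v ∈ V) : ∃ g ∈ Nor V, g * v * g⁻¹ ∈ W := by
  by_cases v1 : v ∈ W
  · exact ⟨1, one_mem _, by simpa using v1⟩
  obtain ⟨w, s⟩ := h.toCP.exists_sw
  obtain ⟨a, ha, e⟩ := h.toCP.cover (h.toCP.conj' s.nor) s.dis hv v1
  exact ⟨w * a, mul_mem s.nor (h.nV ha), by
    simpa only [mul_assoc, mul_inv_rev] using (mem_inf.1 (s.mem' (cmem (h.nV ha) hv) e)).2⟩

theorem transV (h : Pair V W) (hx : x ∈ V ⊓ W) (x1 : x ≠ 1) (hy : y ∈ V) (y1 : y ≠ 1) :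
    ∃ g ∈ Nor V, g * x * g⁻¹ = y := by
  obtain ⟨g, hg, e⟩ := h.cov hy
  obtain ⟨n, hn, e'⟩ := h.trans hx x1 ⟨cmem hg hy, e⟩ (by simpa using y1)
  exact ⟨g⁻¹ * n, mul_mem (inv_mem hg) hn.1, by
    rw [mul_inv_rev, mul_assoc, mul_assoc, ← mul_assoc x, ← mul_assoc n, ← mul_assoc n, e']; group⟩

theorem relH (h : Pair V W) : (V ⊔ W).relIndex (Nor V) + 1 = Nat.card V := by
  obtain ⟨x, hx, x1⟩ := h.toCP.exists_R
  exact card_orb hx.1 x1 le_rfl (fun y hy y1 => h.transV hx x1 hy y1) (h.cen1_eq hx x1)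

theorem card_R (h : Pair V W) : Nat.card ↥(V ⊓ W) = 2 ∨ Nat.card ↥(V ⊓ W) = 4 := by
  obtain ⟨s, hs⟩ := IsPGroup.iff_card.1 ((el_two h.l.el).to_le (inf_le_left : V ⊓ W ≤ V))
  have h1 := h.relB
  have h2 := card_mul_relIndex h.T_le_B
  have h0 : (V ⊔ W).relIndex (Nor V ⊓ Nor W) ≠ 0 := fun e => by
    rw [e, mul_zero] at h2; exact Nat.card_pos.ne h2
  rw [Nat.eq_prime_pow_of_unique_prime_dvd (p := 3) h0 fun {p} hp hd => ?_, hs] at h1
  · rw [hs]; exact pow_two_eq h1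
  have := Fact.mk hp
  obtain ⟨n, hn, ho⟩ := exists_orderOf_eq_prime_mem (p := p) (h2 ▸ hd.mul_left _)
  have p2 : p ≠ 2 := fun e => h.sylB.not_dvd (e ▸ hd)
  by_contra p3
  refine ord_ne_of_two h.sylB.isPGroup hp p2 (h.cube hn.1 hn.2) ?_
  rw [← ho]
  exact Nat.Coprime.orderOf_pow (ho ▸ (Nat.coprime_primes hp Nat.prime_three).2 p3)

theorem rank_two (h : Pair V W) (h2 : Nat.card ↥(V ⊓ W) = 2) : PRankLE 2 2 G := by
  obtain ⟨S, hS, hT⟩ := exists_isSylowOf_ge h.sylB.isPGroup le_top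
  obtain ⟨x, hx, x1⟩ := h.symm.toCP.exists_W
  have ox := orderOf_eq_two' (h.l.el x hx) fun e => x1 (e ▸ one_mem _)
  have h4 : Nat.card V = 4 := by rw [← h.toCP.card, h2]; rfl
  obtain ⟨z, hz, z1, z2, z3⟩ := H7.exists_fixed_order_p hS.isPGroup hS.isPGroup le_normalizer
    fun e => h.l.ne (le_bot_iff.1 (e ▸ le_sup_left.trans hT))
  have zV : z ∈ V := h.cV.le (cen.2 fun y hy => (z3 y (mem_sup_left (hT (mem_sup_left hy)))).symm)
  have zW : z ∈ W := h.cW.le (cen.2 fun y hy => (z3 y (mem_sup_left (hT (mem_sup_right hy)))).symm)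
  have f : F4 z x := ⟨orderOf_eq_two' (h.l.el z zV) z1, ox, el_comm h.l.el zV hx,
    fun e => x1 (e ▸ zW)⟩
  refine rank_of_cyc hS (P.exists_cyc_of_four hS.isPGroup ox (hT (mem_sup_left hx)) ?_)
  rw [← h4]
  refine congrArg (fun X : Subgroup G => Nat.card X) (le_antisymm (fun y hy => h.cV.le ?_)
    (le_inf (le_sup_left.trans hT) fun y hy => c1.2 (el_comm h.l.el hy hx)))
  rw [← F4.eq_V f zV hx h4, cen_V]
  exact ⟨c1.2 (z3 y (mem_sup_left hy.1)), hy.2⟩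

theorem el_le (h : Pair V W) (hE : ∀ x ∈ E, x * x = 1) (hT : E ≤ V ⊔ W) : E ≤ V ∨ E ≤ W := by
  by_contra hn
  rw [not_or] at hn
  obtain ⟨a, ha, a1⟩ := SetLike.not_le_iff_exists.1 hn.1
  obtain ⟨b, hb, b1⟩ := SetLike.not_le_iff_exists.1 hn.2
  have a2 := (h.invT (hT ha) (hE a ha)).resolve_left a1
  have b2 := (h.invT (hT hb) (hE b hb)).resolve_right b1
  rcases h.invT (hT (mul_mem ha hb)) (hE _ (mul_mem ha hb)) with e | e
  · exact a1 (by simpa using mul_mem e (inv_mem b2))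
  · exact b1 (by simpa using mul_mem (inv_mem a2) e)

theorem card_VW (h : Pair V W) : Nat.card V = Nat.card W := by
  rw [← h.toCP.card, ← h.symm.toCP.card, inf_comm]

theorem ne (h : Pair V W) : V ≠ W := fun e => h.nc (e ▸ h.l.le_cen)

theorem conj_eq (h : Pair V W) (hg : conjS g V ≤ V ⊔ W) : conjS g V = V ∨ conjS g V = W :=
  (h.el_le (h.l.conj g).el hg).imp (fun e => eq_of_le_of_card_ge e (card_conjS g V).ge)
    fun e => eq_of_le_of_card_ge e (by rw [card_conjS, h.card_VW])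

theorem cases (h : Pair V W) (h1 : conjS g V ≤ V ⊔ W) (h2 : conjS g W ≤ V ⊔ W) :
    g ∈ Nor V ⊓ Nor W ∨ conjS g V = W ∧ conjS g W = V := by
  have hne : conjS g V ≠ conjS g W := fun e => h.ne (conjS_injective g e)
  rcases h.conj_eq h1 with e | e <;> rcases h.symm.conj_eq (sup_comm V W ▸ h2) with e' | e'
  · exact Or.inl ⟨mem_normalizer_iff_conjS.2 e, mem_normalizer_iff_conjS.2 e'⟩
  · exact (hne (e.trans e'.symm)).elim
  · exact (hne (e.trans e'.symm)).elim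
  · exact Or.inr ⟨e, e'⟩

theorem cases' (h : Pair V W) (hg : g ∈ Nor (V ⊔ W)) :
    g ∈ Nor V ⊓ Nor W ∨ conjS g V = W ∧ conjS g W = V :=
  h.cases ((conjS_mono g le_sup_left).trans (mem_normalizer_iff_conjS.1 hg).le)
    ((conjS_mono g le_sup_right).trans (mem_normalizer_iff_conjS.1 hg).le)

theorem card_T (h : Pair V W) (h4 : Nat.card ↥(V ⊓ W) = 4) :
    Nat.card V = 16 ∧ Nat.card W = 16 ∧ Nat.card ↥(V ⊔ W) = 64 ∧ Nat.card ↥(Nor V ⊓ Nor W) = 192 ∧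
      Nat.card (Nor V) = 960 := by
  have h1 : Nat.card V = 16 := by rw [← h.toCP.card, h4]; rfl
  have h2 : Nat.card W = 16 := h.card_VW ▸ h1
  have h3 := card_sup_mul_card_inf h.nV
  have h5 := card_mul_relIndex h.T_le_B
  have h6 := card_mul_relIndex h.syl'.le
  have h7 := h.relB
  have h8 := h.relH
  rw [h4, h1, h2] at h3
  have h9 : Nat.card ↥(V ⊔ W) = 64 := by omega
  rw [h9] at h5 h6
  omega

theorem l34 (h : Pair V W) (h4 : Nat.card ↥(V ⊓ W) = 4) (hN : Nor (V ⊔ W) ≤ Nor V) : L34 V W := by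
  obtain ⟨c1, c2, c3, c4, c5⟩ := h.card_T h4
  exact ⟨h.cit, h.l.el, h.r.el, h.cV, h.cW, h.nV, h.nW, c1, c2, h4,
    IsSylowOf.of_normalizer (h.syl'.of_le (le_inf le_top le_normalizer) (inf_le_right.trans hN)),
    fun v hv w hw => h.ns hv hw, c5, (h.symm.card_T (inf_comm V W ▸ h4)).2.2.2.2, c4,
    fun g hg x hx x1 e => h.norW hg (h.toCP.nor_of hg hx x1 e),
    fun g hg x hx x1 e => h.symm.norW hg (h.symm.toCP.nor_of hg ⟨hx.2, hx.1⟩ x1 e),
    fun v => h.cov, fun v => h.symm.cov, fun x hx x1 y => h.trans hx x1⟩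

end Pair

end CIT
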