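import Cfsg.Agent.CIT.A6

/-! CIT groups: a graph automorphism gives a subgroup of index two. -/

set_option autoImplicit false
set_option linter.unusedVariables false
set_option linter.unusedSectionVars false

namespace CIT

open Cfsg Subgroup FT H4 H5 GW

variable {G : Type*} [Group G] [Finite G] {V W E : Subgroup G} {k x y a v g r n s z : G}

namespace Pair

theorem two_mem (h : Pair V W) (hx : IsPGroup 2 (zpowers x)) (hB : x ∈ Nor V ⊓ Nor W) :
    x ∈ V ⊔ W :=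
  h.sylB.le_of_le_normalizer' hx (zpowers_le.2 hB) (zpowers_le.2 (h.B_nor hB)) (mem_zpowers x)

theorem swap_mul (e1 : conjS y V = W) (e2 : conjS y W = V) (e3 : conjS s V = W)
    (e4 : conjS s W = V) : y * s ∈ Nor V ⊓ Nor W :=
  ⟨mem_normalizer_iff_conjS.2 (by rw [← conjS_conjS, e3, e2]),
    mem_normalizer_iff_conjS.2 (by rw [← conjS_conjS, e4, e1])⟩

theorem swap_not (h : Pair V W) (e : conjS s V = W) : s ∉ Nor V := fun e' =>
  h.ne ((mem_normalizer_iff_conjS.1 e').symm.trans e)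

theorem exists_swap (h : Pair V W) (h4 : Nat.card ↥(V ⊓ W) = 4) (e1 : conjS y V = W)
    (e2 : conjS y W = V) : ∃ s, s * s = 1 ∧ conjS s V = W ∧ conjS s W = V ∧
      ∃ r ∈ V ⊓ W, s * r * s⁻¹ ≠ r := by
  have : Fact (Nat.Prime 3) := ⟨Nat.prime_three⟩
  have cB := (h.card_T h4).2.2.2.1
  obtain ⟨k, hk, ok⟩ := exists_orderOf_eq_prime_mem (p := 3) (N := Nor V ⊓ Nor W) (by rw [cB]; norm_num)
  have k3 : IsSylowOf 3 (zpowers k) (Nor V ⊓ Nor W) := by
    refine ⟨zpowers_le.2 hk, isPGroup_zpowers_of_orderOf ok, ?_⟩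
    have := card_mul_relIndex (zpowers_le.2 hk)
    rw [Nat.card_zpowers, ok, cB] at this
    omega
  obtain ⟨b, hb, hs⟩ := k3.frattini (g := y) (mem_normalizer_iff_conjS.2 (by
    rw [conjS_inf, conj_nor, conj_nor, e1, e2, inf_comm]))
  have e3 : conjS (b⁻¹ * y) V = W := by
    rw [← conjS_conjS, e1, mem_normalizer_iff_conjS.1 (inv_mem hb).2]
  have e4 : conjS (b⁻¹ * y) W = V := by
    rw [← conjS_conjS, e2, mem_normalizer_iff_conjS.1 (inv_mem hb).1]
  generalize b⁻¹ * y = s at *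
  have m1 := swap_mul e3 e4 e3 e4
  have s2 := h.cit.two_of_sq (K := Nor V ⊓ Nor W) (fun e => h.swap_not e3 e.1) m1
  have nc : ∀ x ∈ zpowers s ⊔ (V ⊔ W), x ≠ 1 → ∀ l, orderOf l = 3 → l ∉ Cen1 x :=
    fun x hx x1 l hl e => ord_ne_of_two (h.cit.cen1 (two_sup' s2 h.sylB.isPGroup (zpowers_le.2
      (mem_normalizer_iff_conjS.2 (by rw [conjS_sup, e3, e4, sup_comm])))) hx x1)
      Nat.prime_three (by norm_num) e hl
  have m2 : s * s ∈ V ⊔ W :=
    h.two_mem (s2.to_le (zpowers_le.2 (mul_mem (mem_zpowers s) (mem_zpowers s)))) m1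
  have ss : s * s = 1 := by
    by_contra hne
    refine nc _ (mem_sup_right m2) hne k ok (c1.2 ?_)
    have a1 : s * s * k * (s * s)⁻¹ * k⁻¹ ∈ zpowers k :=
      mul_mem (cmem (mul_mem hs hs) (mem_zpowers k)) (inv_mem (mem_zpowers k))
    have a2 : s * s * k * (s * s)⁻¹ * k⁻¹ ∈ V ⊔ W := by
      simpa only [mul_assoc] using mul_mem m2 (cmem (h.B_nor hk) (inv_mem m2))
    have a3 : s * s * k * (s * s)⁻¹ * k⁻¹ = 1 := by
      by_contra a3
      refine ord_ne_of_two h.sylB.isPGroup Nat.prime_three (by norm_num) a2 ?_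
      have := orderOf_dvd_natCard _ a1
      rw [Nat.card_zpowers, ok, Nat.dvd_prime Nat.prime_three, orderOf_eq_one_iff] at this
      exact this.resolve_left a3
    rw [mul_inv_eq_one, mul_inv_eq_iff_eq_mul] at a3
    exact a3.symm
  refine ⟨s, ss, e3, e4, by_contra fun hn => ?_⟩
  push Not at hn
  have s1 : s ≠ 1 := fun e => h.swap_not e3 (e ▸ one_mem _)
  have sk : s * k * s⁻¹ = k⁻¹ := by
    rcases (H9.mem_zpowers_three ok).1 (cmem hs (mem_zpowers k)) with e | e | e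
    · rw [← oconj s, e, orderOf_one] at ok; omega
    · exact (nc s (mem_sup_left (mem_zpowers s)) s1 k ok (c1s.1 (c1'.2 e))).elim
    · exact e
  obtain ⟨x, hx, x1⟩ := h.toCP.exists_R
  refine nc x (mem_sup_right (mem_sup_left hx.1)) x1 (k * k) ?_ (c1'.2 ?_)
  · rw [← sq, Nat.Coprime.orderOf_pow (by rw [ok]; norm_num), ok]
  have a1 := hn _ (cmem' (minf hk.1 hk.2) hx)
  calc _ = k * k * (s * x * s⁻¹) * (k * k)⁻¹ := by rw [hn x hx]
    _ = k * k * (s * k * s⁻¹) * (s * (k⁻¹ * x * k) * s⁻¹) * (s * k * s⁻¹)⁻¹ * (k * k)⁻¹ := by group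
    _ = x := by rw [a1, sk]; group

theorem no_swap (h : Pair V W) (h4 : Nat.card ↥(V ⊓ W) = 4)
    (h2 : ∀ N : Subgroup G, N.Normal → N.index ≠ 2) (e1 : conjS y V = W) (e2 : conjS y W = V) :
    False := by
  obtain ⟨s, ss, e3, e4, r, hr, r1⟩ := h.exists_swap h4 e1 e2
  obtain ⟨c1', c2, c3, -, -⟩ := h.card_T h4
  have si : s⁻¹ = s := inv_eq_of_mul_eq_one_right ss
  have sV := h.swap_not e3
  have sT : s ∉ V ⊔ W := fun e => sV (h.syl'.le e)
  have os : orderOf s = 2 := orderOf_eq_two' ss fun e => sT (e ▸ one_mem _)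
  have sN : s ∈ Nor (V ⊔ W) := mem_normalizer_iff_conjS.2 (by rw [conjS_sup, e3, e4, sup_comm])
  have S2 := two_sup h.sylB.isPGroup (two_zp os) (zpowers_le.2 sN)
  have SN : V ⊔ W ⊔ zpowers s ≤ Nor (V ⊔ W) := sup_le le_normalizer (zpowers_le.2 sN)
  have pm : ∀ P : Subgroup G, IsPGroup 2 P → s ∈ P → ∀ p ∈ P, p ∈ Nor (V ⊔ W) →
      p ∈ V ⊔ W ∨ (conjS p V = W ∧ conjS p W = V) ∧ p * s ∈ V ⊔ W := fun P hP hs p hp hn =>
    (h.cases' hn).imp (h.two_mem (hP.to_le (zpowers_le.2 hp))) fun e =>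
      ⟨e, h.two_mem (hP.to_le (zpowers_le.2 (mul_mem hp hs))) (swap_mul e.1 e.2 e3 e4)⟩
  have sS : s ∈ V ⊔ W ⊔ zpowers s := mem_sup_right (mem_zpowers s)
  have ri : (V ⊔ W).relIndex (V ⊔ W ⊔ zpowers s) = 2 :=
    relIndex_eq_two_iff.2 ⟨s, sS, fun b hb => by
      rcases pm _ S2 sS b hb (SN hb) with e | e
      · exact Or.inr ⟨e, fun e' => sT (by simpa using mul_mem (inv_mem e) e')⟩
      · exact Or.inl ⟨e.2, fun e' => sT (by simpa using mul_mem (inv_mem e') e.2)⟩⟩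
  generalize hS : V ⊔ W ⊔ zpowers s = S at *
  have TS : V ⊔ W ≤ S := hS ▸ le_sup_left
  have E16 : ∀ E ≤ S, (∀ x ∈ E, x * x = 1) → Nat.card E = 16 → E ≤ V ⊔ W := fun E hE el cE e he => by
    by_contra e0
    obtain ⟨⟨f1, f2⟩, -⟩ := (pm S S2 sS e (hE he) (SN (hE he))).resolve_left e0
    have fx : ∀ x ∈ (V ⊔ W) ⊓ E, e * x * e⁻¹ = x := fun x hx => by rw [el_comm el he hx.2]; group
    have l : (V ⊔ W) ⊓ E ≤ V ⊓ W := by
      rcases h.el_le (E := (V ⊔ W) ⊓ E) (fun x hx => el x hx.2) inf_le_left with l | l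
      · exact fun x hx => ⟨l hx, fx x hx ▸ f1 ▸ conj_mem_conjS (l hx)⟩
      · exact fun x hx => ⟨fx x hx ▸ f2 ▸ conj_mem_conjS (l hx), l hx⟩
    have a1 := card_inf_mul_relIndex (V ⊔ W) E
    have a2 := relIndex_le_of_le_right (H := V ⊔ W) hE (by omega)
    have := Nat.mul_le_mul ((card_le_of_le l).trans h4.le) (a2.trans ri.le)
    omega
  have syl : IsSylowOf 2 S ⊤ := by
    have a1 : IsSylowOf 2 S (Nor (V ⊔ W)) := isSylowOf_of_maximal SN S2 fun P hP l1 l2 p hp => by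
      rcases pm P hP (l1 sS) p hp (l2 hp) with e | e
      · exact TS e
      · simpa using mul_mem (TS e.2) (inv_mem sS)
    refine IsSylowOf.of_normalizer (a1.of_le (le_inf le_top le_normalizer) fun g hg => ?_)
    have l := (mem_normalizer_iff_conjS.1 hg.2).le
    refine mem_normalizer_of_conjS_le ?_
    rw [conjS_sup]
    exact sup_le (E16 _ ((conjS_mono g (le_sup_left.trans TS)).trans l) (h.l.conj g).el
      (by rw [card_conjS, c1'])) (E16 _ ((conjS_mono g (le_sup_right.trans TS)).trans l)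
      (h.r.conj g).el (by rw [card_conjS, c2]))
  obtain ⟨v, hv, v1⟩ := h.symm.toCP.exists_W
  have hw : s * v * s⁻¹ ∈ W := e3 ▸ conj_mem_conjS hv
  have ws : ∀ x, s * (s * x * s⁻¹) * s⁻¹ = x := fun x => by
    calc _ = s * s * x * (s * s)⁻¹ := by group
      _ = x := by rw [ss]; group
  have w1 : s * v * s⁻¹ ∉ V := fun e => v1 (ws v ▸ e3 ▸ conj_mem_conjS e)
  have wv := ws v
  generalize s * v * s⁻¹ = w at *
  have vi := el_inv h.l.el hv
  have wi := el_inv h.r.el hw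
  have zR : v * w * v * w ∈ V ⊓ W := by
    have := h.toCP.cm_mem hv hw
    rwa [vi, wi] at this
  have z1 : v * w * v * w ≠ 1 := fun e => (h.ns hv hw (by
    rw [← mul_inv_eq_one, mul_inv_rev, vi, wi, ← mul_assoc, e])).elim v1 w1
  have svw : s * v * s⁻¹ = w := by rw [← wv, ws]
  have zi := el_inv h.l.el zR.1
  have zs : s * (v * w * v * w) * s⁻¹ = v * w * v * w := by
    rw [← zi]
    nth_rewrite 1 [zi]
    simp only [mul_inv_rev, vi, wi]
    calc _ = s * v * s⁻¹ * (s * w * s⁻¹) * (s * v * s⁻¹) * (s * w * s⁻¹) := by group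
      _ = _ := by rw [svw, wv]; group
  have cz : w * v = v * w * (v * w * v * w) := by
    rw [← zi]; simp only [mul_inv_rev, vi, wi]
    calc w * v = (v * (w * w) * v) * (w * v) := by rw [h.r.el w hw, mul_one, h.l.el v hv, one_mul]
      _ = _ := by group
  have zdef : v * w * (v * w) = v * w * v * w := by group
  generalize v * w * v * w = z at *
  have zz := h.l.el z zR.1
  have sR : s ∈ Nor (V ⊓ W) := mem_normalizer_iff_conjS.2 (by rw [conjS_inf, e3, e4, inf_comm])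
  have r0 : r ≠ 1 := fun e => r1 (by simp [e])
  have f : F4 z r := ⟨orderOf_eq_two' zz z1, orderOf_eq_two' (h.l.el r hr.1) r0,
    el_comm h.l.el zR.1 hr.1, fun e => r1 (e ▸ zs)⟩
  have rs : s * r * s⁻¹ = z * r := by
    rcases f.mem_V.1 ((F4.eq_V f zR hr h4).ge (cmem sR hr)) with e | e | e | e
    · exact (r0 (by simpa using e)).elim
    · exact (f.ne (by rw [← ws r, e, zs])).elim
    · exact (r1 e).elim
    · exact e
  have vw : v * w ∈ V ⊔ W := mul_mem (mem_sup_left hv) (mem_sup_right hw)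
  have cs : v * w * r ∈ Cen1 s := c1s.1 (GW.c1'.2 (by
    calc _ = s * v * s⁻¹ * (s * w * s⁻¹) * (s * r * s⁻¹) := by group
      _ = v * w * (z * z) * r := by rw [svw, wv, rs, cz]; group
      _ = _ := by rw [zz, mul_one]))
  have cc : v * w * r * (v * w * r) = z := by
    calc _ = v * w * (v * w) * ((v * w)⁻¹ * r * (v * w)⁻¹⁻¹) * r := by group
      _ = z := by rw [h.fixR (inv_mem vw) hr, zdef, mul_assoc, h.l.el r hr.1, mul_one]
  have CS : Cen1 z = S := syl.eq_of_le (h.cit.inv zz z1)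
    (hS ▸ sup_le (fun t ht => GW.c1'.2 (h.fixR ht zR)) (zpowers_le.2 (GW.c1'.2 zs))) le_top
  have tr : ∀ y ∈ V ⊔ W, y * y = 1 → y ≠ 1 → ∃ g, g * z * g⁻¹ = y := fun y hy y2 y1 => by
    rcases h.invT hy y2 with e | e
    · exact (h.transV zR z1 e y1).imp fun g hg => hg.2
    · exact (h.symm.transV ⟨zR.2, zR.1⟩ z1 e y1).imp fun g hg => hg.2
  obtain ⟨g, hg⟩ := Dich.exists_conj_mem h2 _ (P.index_mod_four syl TS ri) ss
  obtain ⟨g', hg'⟩ := tr _ hg (by
    calc _ = g⁻¹ * (s * s) * g := by group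
      _ = 1 := by rw [ss]; group) (fun e => ine os (by simpa [mul_assoc] using congrArg (g * · * g⁻¹) e))
  have gs : g * g' * z * (g * g')⁻¹ = s := by
    calc _ = g * (g' * z * g'⁻¹) * g⁻¹ := by group
      _ = s := by rw [hg']; group
  generalize g * g' = u at gs
  rw [← gs, ← conj_c1, CS, mem_conjS] at cs
  have m1 : u⁻¹ * z * u ∈ V ⊔ W := by
    have e : u⁻¹ * z * u = u⁻¹ * (v * w * r) * u * (u⁻¹ * (v * w * r) * u) := by rw [← cc]; group
    rw [e]
    rcases pm S S2 sS _ cs (SN cs) with e | e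
    · exact mul_mem e e
    · exact h.two_mem (S2.to_le (zpowers_le.2 (mul_mem cs cs))) (swap_mul e.1.1 e.1.2 e.1.1 e.1.2)
  have fin : ∀ X : Subgroup G, Vx X → Nat.card X = 16 → z ∈ X → u⁻¹ * z * u ∈ X → False :=
    fun X hX cX a1 a2 => sT (E16 (conjS u X)
      (CS ▸ fun x hx => c1.2 (el_comm (hX.conj u).el hx (mem_conjS.2 a2))) (hX.conj u).el
      (by rw [card_conjS, cX]) (gs ▸ conj_mem_conjS a1))
  rcases h.invT m1 (by
    calc _ = u⁻¹ * (z * z) * u := by group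
      _ = 1 := by rw [zz]; group) with e | e
  · exact fin V h.l c1' zR.1 e
  · exact fin W h.r c2 zR.2 e

end Pair

/-- the structure of simple CIT groups -/
theorem cit_cases [IsSimpleGroup G] (hG : ¬ IsMulCommutative G) (h2 : 2 ∣ Nat.card G)
    (hc : IsCIT G) : (∃ M : Subgroup G, IsStronglyEmbedded M) ∨ PRankLE 2 2 G ∨
      ∃ V W : Subgroup G, L34 V W := by
  rcases short_or hc with hs | ⟨V, W, h⟩
  · exact Or.inl (se_of_short hG h2 hc hs)
  rcases h.card_R with e | e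
  · exact Or.inr (Or.inl (h.rank_two e))
  exact Or.inr (Or.inr ⟨V, W, h.l34 e fun g hg => ((h.cases' hg).resolve_right fun e' =>
    h.no_swap e (P.no_index_two hG) e'.1 e'.2).1⟩)

end CIT
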