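import Cfsg.Agent.CIT.A7
import Cfsg.Agent.BS.SE
import Cfsg.Agent.BS.SECor
import Cfsg.Agent.H7.NPCFunctor

/-! Simple groups whose involution centralizers are 2-nilpotent. -/

set_option autoImplicit false

namespace CIT

open Cfsg Subgroup FT H4 H5 GW

universe u

variable {G : Type u} [Group G] [Finite G]

theorem cit_of_rank [IsSimpleGroup G] (hG : ¬ IsMulCommutative G)
    (hI : ∀ t : G, orderOf t = 2 → HasNormalPComplement 2 (Cen1 t)) (h3 : ¬ PRankLE 2 2 G) :
    IsCIT G := fun t ht => by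
  have h0 := Dich.core_eq_bot_of_simple BS.seThm hG (fun b b2 b1 => isPConstrained_of_isPSolvable
    (H7.hasNormalPComplement_iff_top.1 (hI b (orderOf_eq_two' b2 b1))).isPSolvable) h3 ht
  refine isPGroup_iff_forall.2 fun x hx => ?_
  obtain ⟨k, hk⟩ := H7.npc_iff_pPrimeCoreIn.1 (H7.hasNormalPComplement_iff.1 (hI t ht)) x hx
  exact ⟨k, mem_bot.1 (h0.le hk)⟩

theorem main_of (r2 : Rank2Thm.{u}) (l34 : L34Thm.{u}) [IsSimpleGroup G] (hG : ¬ IsMulCommutative G)
    (hI : ∀ t : G, orderOf t = 2 → HasNormalPComplement 2 (Cen1 t))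
    (se : (∃ M : Subgroup G, IsStronglyEmbedded M) → Concl G) : Concl G := by
  by_cases h3 : PRankLE 2 2 G
  · exact r2 G hG hI h3
  rcases cit_cases hG (BS.even_of_simple hG).two_dvd (cit_of_rank hG hI h3) with h | h | ⟨V, W, h⟩
  · exact se h
  · exact (h3 h).elim
  · exact Or.inr (Or.inr (Or.inr (l34 G V W h)))

end CIT
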