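import Cfsg.Agent.CIT.A7

/-! Recognition of `L₃(4)`: the projective plane. -/

set_option autoImplicit false
set_option linter.unusedVariables false
set_option linter.unusedSectionVars false

namespace CIT

open Cfsg Subgroup FT H4 H5 GW

variable {G : Type*} [Group G] [Finite G] {V W X Y X' Y' : Subgroup G} {k f x y a v g t u w z : G}

theorem ncard_le_mul {α β : Type*} [Finite α] [Finite β] {I : Set α} {s : Set β} {F : β → Set α}
    {m : ℕ} (h : ∀ x ∈ I, ∃ b ∈ s, x ∈ F b) (hm : ∀ b ∈ s, (F b).ncard ≤ m) :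
    I.ncard ≤ s.ncard * m := by
  classical
  have h1 : I ⊆ ⋃ b ∈ (Set.toFinite s).toFinset, F b := fun x hx => by simpa using h x hx
  refine (Set.ncard_le_ncard h1).trans ((Finset.set_ncard_biUnion_le _ _).trans ?_)
  rw [Set.ncard_eq_toFinset_card s, ← smul_eq_mul]
  exact Finset.sum_le_card_nsmul _ _ _ fun b hb => hm b (by simpa using hb)

structure Q4 (V W : Subgroup G) : Prop extends Pair V W where
  h4 : Nat.card ↥(V ⊓ W) = 4
  top : IsSylowOf 2 (V ⊔ W) ⊤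

theorem Pair.conj (h : Pair V W) (g : G) : Pair (conjS g V) (conjS g W) :=
  ⟨h.toCP.conj g, by rw [← conj_cen, h.cV], by rw [← conj_cen, h.cW]⟩

theorem L34.q4 (h : L34 V W) : Q4 V W := by
  have aux : ∀ {V W : Subgroup G}, (∀ x ∈ V, x * x = 1) → (∀ x ∈ W, x * x = 1) → Cen V = V →
      W ≤ Nor V → IsSylowOf 2 (V ⊔ W) ⊤ → Nat.card V = 16 →
      (∀ v ∈ V, ∃ h ∈ Nor V, h * v * h⁻¹ ∈ W) → Vx V := fun {V W} e1 e2 c n s cd cv => by
    refine ⟨e1, fun x a _ _ => c ▸ a, fun x hx => cen.2 fun v hv => ?_, fun e => ?_⟩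
    · obtain ⟨g, hg, e⟩ := cv v hv
      have l : V ⊔ W ≤ Nor V := sup_le le_normalizer n
      have m := (s.of_le l le_top).le_of_le_normalizer (isPGroup_pCoreIn _ _) (pCoreIn_le _ _)
        (l.trans (le_normalizer_pCoreIn _ _)) (cmem (le_normalizer_pCoreIn _ _ hg) hx)
      have : V ⊔ W ≤ Cen1 (g * v * g⁻¹) := sup_le (fun y hy => c1.2 (el_comm e1 hy (cmem hg hv)))
        fun y hy => c1.2 (el_comm e2 hy e)
      simpa using c1.1 (this m)
    · rw [e, card_bot] at cd; omega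
  refine ⟨⟨⟨h.cit, aux h.eV h.eW h.cV h.nV h.syl h.cardV h.covV,
    aux h.eW h.eV h.cW h.nW (sup_comm V W ▸ h.syl) h.cardW h.covW, h.nV, h.nW, fun e => ?_⟩,
    h.cV, h.cW⟩, h.cardR, h.syl⟩
  have := h.cardR
  rw [inf_eq_right.2 (h.cV ▸ e), h.cardW] at this
  omega

/-- `(X, Y)` is a flag -/
def Fl (V W X Y : Subgroup G) : Prop := ∃ u, conjS u V = X ∧ conjS u W = Y

theorem Fl.symm (h : Fl V W X Y) : Fl W V Y X := let ⟨u, a, b⟩ := h; ⟨u, b, a⟩

theorem Fl.conj (h : Fl V W X Y) (g : G) : Fl V W (conjS g X) (conjS g Y) :=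
  let ⟨u, a, b⟩ := h; ⟨g * u, by rw [← conjS_conjS, a], by rw [← conjS_conjS, b]⟩

theorem Fl.refl (V W : Subgroup G) : Fl V W V W := ⟨1, conjS_one V, conjS_one W⟩

namespace Q4

theorem symm (h : Q4 V W) : Q4 W V := ⟨h.toPair.symm, inf_comm V W ▸ h.h4, sup_comm V W ▸ h.top⟩

theorem conj (h : Q4 V W) (g : G) : Q4 (conjS g V) (conjS g W) :=
  ⟨h.toPair.conj g, by rw [← conjS_inf, card_conjS, h.h4],
    conjS_sup g V W ▸ h.top.map_conj (le_normalizer (mem_top g))⟩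

theorem fl (h : Q4 V W) (f : Fl V W X Y) : Q4 X Y := by
  obtain ⟨u, rfl, rfl⟩ := f; exact h.conj u

theorem cen1 (h : Q4 V W) (hx : x ∈ V ⊓ W) (x1 : x ≠ 1) : Cen1 x = V ⊔ W :=
  h.top.eq_of_le (h.cit.inv (h.l.el x hx.1) x1) (fun t ht => c1'.2 (h.fixR ht hx)) le_top

theorem not_conj (h : Q4 V W) (g : G) : conjS g V ≠ W := fun e => by
  have s := syl_conj h.syl' g
  rw [conj_nor, e] at s
  obtain ⟨c, hc, e'⟩ := s.exists_conj h.syl''
  have n : c * g ∈ Nor (V ⊔ W) := mem_normalizer_iff_conjS.2 (by rw [← conjS_conjS]; exact e')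
  have e1 : conjS (c * g) V = W := by rw [← conjS_conjS, e, mem_normalizer_iff_conjS.1 hc]
  have e2 := ((h.cases' n).resolve_left fun e => h.swap_not e1 e.1).2
  have := h.cit.two_of_sq (K := Nor V ⊓ Nor W) (fun e => h.swap_not e1 e.1)
    (Pair.swap_mul e1 e2 e1 e2)
  exact h.swap_not e1 (h.syl'.le (h.top.le_of_le_normalizer' this le_top (zpowers_le.2 n)
    (mem_zpowers _)))

theorem eq_of_mem (h : Q4 V W) (hx : x ∈ V ⊓ W) (x1 : x ≠ 1) (e : x ∈ conjS g V) : conjS g V = V :=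
  (h.conj_eq (h.cen1 hx x1 ▸ fun y hy => c1.2 (el_comm (h.l.conj g).el hy e))).resolve_right
    (h.not_conj g)

theorem ptU (h : Q4 V W) (h1 : x ∈ V) (h2 : x ∈ conjS g V) (x1 : x ≠ 1) : conjS g V = V := by
  obtain ⟨c, hc, e⟩ := h.cov h1
  have := h.eq_of_mem (g := c * g) ⟨cmem hc h1, e⟩ (by simpa using x1)
    (by rw [← conjS_conjS]; exact conj_mem_conjS h2)
  rw [← conjS_conjS] at this
  exact conjS_injective c (this.trans (mem_normalizer_iff_conjS.1 hc).symm)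

theorem ptU' (h : Q4 V W) (f : Fl V W X Y) (f' : Fl V W X' Y') (h1 : x ∈ X) (h2 : x ∈ X')
    (x1 : x ≠ 1) : X = X' := by
  obtain ⟨u, rfl, rfl⟩ := f
  obtain ⟨u', rfl, rfl⟩ := f'
  have := (h.conj u).ptU (g := u' * u⁻¹) h1 (by rwa [conjS_conjS, inv_mul_cancel_right]) x1
  rw [← this, conjS_conjS, inv_mul_cancel_right]

/-- an involution fixing a point lies in a line through it -/
theorem line (h : Q4 V W) (ht : t ∈ Nor V) (t2 : t * t = 1) : ∃ Y, Fl V W V Y ∧ t ∈ Y := by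
  obtain ⟨c, hc, e⟩ := h.syl'.exists_conj_le (Dich.pgroup_inv t2) (zpowers_le.2 ht)
  have key : ∀ d ∈ Nor V, d * t * d⁻¹ ∈ W → ∃ Y, Fl V W V Y ∧ t ∈ Y := fun d hd e =>
    ⟨conjS d⁻¹ W, ⟨d⁻¹, mem_normalizer_iff_conjS.1 (inv_mem hd), rfl⟩, mem_conjS.2 (by simpa using e)⟩
  rcases h.invT (e (conj_mem_conjS (mem_zpowers t))) (by rw [conj_mul, t2]; group) with e | e
  · obtain ⟨d, hd, e'⟩ := h.cov e
    exact key (d * c) (mul_mem hd hc) (by simpa only [mul_assoc, mul_inv_rev] using e')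
  · exact key c hc e

theorem line' (h : Q4 V W) (f : Fl V W X Y) (ht : t ∈ Nor X) (t2 : t * t = 1) :
    ∃ Y', Fl V W X Y' ∧ t ∈ Y' := by
  obtain ⟨Y', ⟨u, a, b⟩, e⟩ := (h.fl f).line ht t2
  exact ⟨Y', by have := f.conj u; rwa [a, b] at this, e⟩

/-- two points lie on at most one line -/
theorem uniq (h : Q4 V W) (f1 : Fl V W X Y) (f2 : Fl V W X Y') (f3 : Fl V W X' Y)
    (f4 : Fl V W X' Y') : X = X' ∨ Y = Y' := by
  refine or_iff_not_imp_left.2 fun hne => ?_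
  obtain ⟨r, hr, r1⟩ := (h.fl f1).toCP.exists_R
  have n : r ∈ Nor (X' ⊓ Y') := minf ((h.fl f3).nV hr.2) ((h.fl f2).nW hr.1)
  obtain ⟨x, hx, x1, -, x3⟩ := H7.exists_fixed_order_p ((el_two (h.fl f4).l.el).to_le inf_le_left)
    (Dich.pgroup_inv ((h.fl f1).l.el r hr.1)) (zpowers_le.2 n) (h.fl f4).R_ne
  rcases (h.fl f3).ns hx.1 hr.2 (x3 r (mem_sup_right (mem_zpowers r))).symm with e | e
  · exact h.symm.ptU' f1.symm f2.symm e hx.2 x1
  · exact (hne (h.ptU' f1 f3 hr.1 e r1)).elim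

theorem lines (h : Q4 V W) (f : Fl V W X Y) : {Y' | Fl V W X Y'}.ncard = 5 := by
  have h' := h.fl f
  obtain ⟨-, -, -, c1, c2⟩ := h'.card_T h'.h4
  have e := card_mul_relIndex (inf_le_left : Nor X ⊓ Nor Y ≤ Nor X)
  rw [c1, c2, inf_comm, inf_relIndex_right, ← FT.ncard_conjS] at e
  have : {Y' | Fl V W X Y'} = {Y' | ∃ g ∈ Nor X, conjS g Y = Y'} := by
    obtain ⟨u, rfl, rfl⟩ := f
    ext Y'
    refine ⟨fun ⟨u', a, b⟩ => ⟨u' * u⁻¹, mem_normalizer_iff_conjS.2 ?_, ?_⟩, ?_⟩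
    · rw [conjS_conjS, inv_mul_cancel_right, a]
    · rw [conjS_conjS, inv_mul_cancel_right, b]
    · rintro ⟨g, hg, rfl⟩
      exact ⟨g * u, by rw [← conjS_conjS, mem_normalizer_iff_conjS.1 hg], (conjS_conjS _ _ _).symm⟩
  rw [this]; omega

theorem fpf (h : Q4 V W) {p : ℕ} (hp : p.Prime) (p2 : p ≠ 2) (hk : orderOf k = p) (k1 : k ∈ Nor V)
    (ha : a ∈ W) (e : k * a * k⁻¹ * a⁻¹ ∈ V) : a ∈ V := by_contra fun a1 =>
  ord_ne_of_two (h.cit.two_cm1 h.top.isPGroup le_sup_left (mem_sup_right ha) a1 le_rfl) hp p2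
    ⟨k1, e⟩ hk

theorem W_nor (h : Q4 V W) (s : Sw V W w) (ha : a ∈ W) (e : a ∈ Nor (conjS w W)) : a ∈ V :=
  h.cV.le (h.toCP.two_le (h.toCP.conj' s.nor) s.dis ((el_two h.r.el).to_le (zpowers_le.2 ha))
    (zpowers_le.2 (h.nV ha)) (zpowers_le.2 (h.toCP.W_nor ha)) (zpowers_le.2 (minf (h.nV ha) e))
    (mem_zpowers a))

theorem fl_sw (s : Sw V W w) : Fl V W V (conjS w W) := ⟨w, mem_normalizer_iff_conjS.1 s.nor, rfl⟩

/-- an element of odd prime order fixes only two lines through a point -/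
theorem two_lines (h : Q4 V W) (s : Sw V W w) {p : ℕ} (hp : p.Prime) (p2 : p ≠ 2)
    (hk : orderOf k = p) (k1 : k ∈ Nor V) (k2 : k ∈ Nor W) (k3 : k ∈ Nor (conjS w W))
    (f : Fl V W V Y) (k4 : k ∈ Nor Y) : Y = W ∨ Y = conjS w W := by
  refine or_iff_not_imp_left.2 fun hne => ?_
  obtain ⟨x, hx, x1⟩ := (h.fl f).toCP.exists_R
  obtain ⟨a, ha, e⟩ := h.toCP.cover (h.toCP.conj' s.nor) s.dis hx.1 fun e =>
    hne (h.symm.ptU' f.symm (Fl.refl W V) hx.2 e x1)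
  have e1 : conjS a Y = conjS w W := h.symm.ptU' (f.symm.conj a) (fl_sw s).symm
    (conj_mem_conjS hx.2) e (by simpa using x1)
  have m : k * a * k⁻¹ * a⁻¹ ∈ W := mul_mem (cmem k2 ha) (inv_mem ha)
  have := h.fpf hp p2 hk k1 ha (h.W_nor s m (by
    have : a * k⁻¹ * a⁻¹ ∈ Nor (conjS w W) := by
      rw [← e1, ← conj_nor]; exact conj_mem_conjS (inv_mem k4)
    simpa only [mul_assoc] using mul_mem k3 this))
  rw [← e1, mem_normalizer_iff_conjS.1 ((h.fl f).nW this)]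

theorem sw_ne (h : Q4 V W) (s : Sw V W w) : conjS w W ≠ W := fun e => h.toCP.R_ne (by
  rw [← s.dis, e, inf_assoc, inf_idem])

theorem no15 (h : Q4 V W) (hk : orderOf k = 3) (hf : orderOf f = 5) (k1 : k ∈ Nor V)
    (f1 : f ∈ Nor V) (c : k * f = f * k) : False := by
  have : Fact (Nat.Prime 3) := ⟨Nat.prime_three⟩
  obtain ⟨-, -, -, c1, c2⟩ := h.card_T h.h4
  obtain ⟨P, hP⟩ := exists_isSylowOf 3 (Nor V ⊓ Nor W)
  have hP' : IsSylowOf 3 P (Nor V) := isSylowOf_of_card (hP.le.trans inf_le_left) hP.isPGroup (by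
    rw [hP.card_eq, c1, c2]; decide +kernel)
  obtain ⟨g, hg, e⟩ := hP'.exists_conj_le (isPGroup_zpowers_of_orderOf hk) (zpowers_le.2 k1)
  have f0 : Fl V W V (conjS g⁻¹ W) := ⟨g⁻¹, mem_normalizer_iff_conjS.1 (inv_mem hg), rfl⟩
  have k2 : k ∈ Nor (conjS g⁻¹ W) := by
    rw [← conj_nor, mem_conjS, inv_inv]; exact (hP.le (e (conj_mem_conjS (mem_zpowers k)))).2
  have h' := h.fl f0
  generalize conjS g⁻¹ W = Y at *
  have e1 : {Y' | ∃ g ∈ zpowers f, conjS g Y = Y'} = {Y' | Fl V Y V Y'} := by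
    refine Set.eq_of_subset_of_ncard_le ?_ ?_
    · rintro _ ⟨g, hg, rfl⟩
      exact ⟨g, mem_normalizer_iff_conjS.1 (zpowers_le.2 f1 hg), rfl⟩
    rw [h'.lines (Fl.refl V Y), FT.ncard_conjS]
    have d := relIndex_dvd_card (Nor Y) (zpowers f)
    rw [Nat.card_zpowers, hf, Nat.dvd_prime (by norm_num)] at d
    refine (d.resolve_left fun e => ?_).ge
    have := orderOf_dvd_natCard _ (mem_inf.2 ⟨f1, relIndex_eq_one.1 e (mem_zpowers f)⟩)
    rw [hf, (h'.card_T h'.h4).2.2.2.1] at this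
    omega
  have all : ∀ Y', Fl V Y V Y' → k ∈ Nor Y' := fun Y' hY => by
    obtain ⟨_, ⟨i, rfl⟩, rfl⟩ := e1.ge hY
    rw [mem_normalizer_iff_conjS, conjS_conjS, (Commute.zpow_right c i).eq, ← conjS_conjS,
      mem_normalizer_iff_conjS.1 k2]
  obtain ⟨w, s⟩ := h'.toCP.exists_sw
  have : {Y' | Fl V Y V Y'} ⊆ {Y, conjS w Y} := fun Y' hY =>
    h'.two_lines s Nat.prime_three (by norm_num) hk k1 k2 (all _ (fl_sw s)) hY (all _ hY)
  have := (Set.ncard_le_ncard this).trans (Set.ncard_insert_le _ _)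
  rw [h'.lines (Fl.refl V Y), Set.ncard_singleton] at this
  omega

theorem card_odd (h : Q4 V W) {A : Subgroup G} (hA : A ≤ Nor V) (ho : ∀ t ∈ A, orderOf t ≠ 2)
    (hc : ∀ x ∈ A, ∀ y ∈ A, orderOf x = 3 → orderOf y = 5 → ∃ x' ∈ A, orderOf x' = 3 ∧ x' * y = y * x') :
    Nat.card A = 1 ∨ Nat.card A = 3 ∨ Nat.card A = 5 := by
  have d := card_dvd_of_le hA
  rw [(h.card_T h.h4).2.2.2.2] at d
  have o : ¬ 2 ∣ Nat.card A := fun e => by
    obtain ⟨t, ht, e'⟩ := exists_orderOf_eq_prime_mem e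
    exact ho t ht e'
  have d' : Nat.card A ∣ 15 := (Nat.Coprime.pow_right 6
    ((Nat.prime_two.coprime_iff_not_dvd).2 o).symm).dvd_of_dvd_mul_left d
  have n : Nat.card A ≠ 15 := fun e => by
    have : Fact (Nat.Prime 3) := ⟨Nat.prime_three⟩
    have : Fact (Nat.Prime 5) := ⟨by norm_num⟩
    obtain ⟨x, hx, o3⟩ := exists_orderOf_eq_prime_mem (p := 3) (N := A) (by rw [e]; norm_num)
    obtain ⟨y, hy, o5⟩ := exists_orderOf_eq_prime_mem (p := 5) (N := A) (by rw [e]; norm_num)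
    obtain ⟨x', hx', o3', c⟩ := hc x hx y hy o3 o5
    exact h.no15 o3' o5 (hA hx') (hA hy) c
  have := Nat.le_of_dvd (by norm_num) d'
  generalize Nat.card A = m at *
  interval_cases m <;> omega

theorem col_card (h : Q4 V W) : {X | ∃ Y, Fl V W V Y ∧ Fl V W X Y}.ncard ≤ 21 := by
  have := ncard_le_mul (I := {X | ∃ Y, Fl V W V Y ∧ Fl V W X Y} \ {V}) (s := {Y | Fl V W V Y})
    (F := fun Y => {X | Fl W V Y X} \ {V}) (m := 4)
    (fun X hX => let ⟨Y, a, b⟩ := hX.1; ⟨Y, a, b.symm, hX.2⟩) fun Y hY => by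
      have := Set.ncard_sdiff_singleton_add_one (s := {X | Fl W V Y X}) (Fl.symm hY)
      rw [h.symm.lines (Fl.symm hY)] at this
      omega
  rw [h.lines (Fl.refl V W)] at this
  have e := Set.ncard_sdiff_singleton_add_one (s := {X | ∃ Y, Fl V W V Y ∧ Fl V W X Y})
    ⟨W, Fl.refl V W, Fl.refl V W⟩
  omega

theorem col_of_inv (h : Q4 V W) (h1 : t ∈ Nor V) (h2 : t ∈ Nor (conjS g V)) (ht : orderOf t = 2) :
    ∃ Y, Fl V W V Y ∧ Fl V W (conjS g V) Y := by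
  obtain ⟨Y, f, e⟩ := h.line h1 (ii ht)
  obtain ⟨Y', f', e'⟩ := h.line' ⟨g, rfl, rfl⟩ h2 (ii ht)
  exact ⟨Y, f, h.symm.ptU' f.symm f'.symm e e' (ine ht) ▸ f'⟩

/-- any two points are collinear -/
theorem col (h : Q4 V W) (g : G) : ∃ Y, Fl V W V Y ∧ Fl V W (conjS g V) Y := by
  by_contra hn
  obtain ⟨cV, -, cT, -, cH⟩ := h.card_T h.h4
  obtain ⟨z, hz, z1⟩ := h.toCP.exists_R
  have nP : {X | ∃ g ∈ (⊤ : Subgroup G), conjS g V = X}.ncard = (Nor V).index := by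
    rw [FT.ncard_conjS, relIndex_top_right]
  have n1 : 64 ≤ (Nor V).index := by
    have e : Nor (conjS g V) ⊓ (V ⊔ W) = ⊥ := by_contra fun e => by
      obtain ⟨t, ht, t1, t2, -⟩ := H7.exists_fixed_order_p (h.top.isPGroup.to_le inf_le_right)
        (h.top.isPGroup.to_le inf_le_right) le_normalizer e
      exact hn (h.col_of_inv (h.syl'.le ht.2) ht.1 (orderOf_eq_prime t2 t1))
    rw [← nP, ← cT, ← relIndex_bot_left, ← e, inf_relIndex_right, ← FT.ncard_conjS]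
    refine Set.ncard_le_ncard ?_
    rintro _ ⟨t, -, rfl⟩
    exact ⟨t * g, mem_top _, (conjS_conjS _ _ _).symm⟩
  have nI := BS.ncard_conj ⊤ z
  rw [relIndex_top_right, h.cen1 hz z1] at nI
  have i1 := (V ⊔ W).card_mul_index
  have i2 := (Nor V).card_mul_index
  rw [cT] at i1
  rw [cH] at i2
  have oI : ∀ t ∈ {y | ∃ g ∈ (⊤ : Subgroup G), g * z * g⁻¹ = y}, orderOf t = 2 := by
    rintro _ ⟨g, -, rfl⟩
    exact iconj (orderOf_eq_two' (h.l.el z hz.1) z1) g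
  generalize {y | ∃ g ∈ (⊤ : Subgroup G), g * z * g⁻¹ = y} = I at *
  let C := {t : G | ∃ Y, Fl V W V Y ∧ Fl V W (conjS t V) Y}
  have b1 := ncard_le_mul (I := I ∩ C) (s := {X | ∃ Y, Fl V W V Y ∧ Fl V W X Y})
    (F := fun X => X) (m := 16) (fun t ht => by
      obtain ⟨Y, f1, f2⟩ := ht.2
      have t2 := ii (oI t ht.1)
      have : ∃ Y, Fl V W V Y ∧ t ∈ Nor Y := by
        have f3 := f2.conj t
        rw [conjS_conjS, t2, conjS_one] at f3
        rcases h.uniq f1 f3 f2 (f1.conj t) with e | e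
        · obtain ⟨Y', f', e'⟩ := h.line (mem_normalizer_iff_conjS.2 e.symm) t2
          exact ⟨Y', f', le_normalizer e'⟩
        · exact ⟨Y, f1, mem_normalizer_iff_conjS.2 e.symm⟩
      obtain ⟨Y, f, e⟩ := this
      obtain ⟨X, f', e'⟩ := h.symm.line' f.symm e t2
      exact ⟨X, ⟨Y, f, f'.symm⟩, e'⟩) (fun X ⟨Y, _, u, a, _⟩ => by
      rw [← a, ← cV, ← card_conjS u]; exact (Nat.card_coe_set_eq _).ge)
  have b2 := ncard_le_mul (I := I \ C) (s := {X | ∃ g ∈ (⊤ : Subgroup G), conjS g V = X})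
    (F := fun X => {t | t ∈ I \ C ∧ conjS t V = X}) (m := 5)
    (fun t ht => ⟨_, ⟨t, mem_top _, rfl⟩, ht, rfl⟩) (fun X _ => by
      rcases Set.eq_empty_or_nonempty {t | t ∈ I \ C ∧ conjS t V = X} with e | ⟨t, ht, rfl⟩
      · rw [e]; simp
      have t2 := ii (oI t ht.1)
      have no : ∀ y ∈ Nor V ⊓ Nor (conjS t V), orderOf y ≠ 2 := fun y hy o =>
        ht.2 (h.col_of_inv hy.1 hy.2 o)
      have tn : t ∈ Nor (Nor V ⊓ Nor (conjS t V)) := by
        rw [mem_normalizer_iff_conjS, conjS_inf, conj_nor, conj_nor, conjS_conjS, t2, conjS_one,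
          inf_comm]
      have iv : ∀ y ∈ Nor V ⊓ Nor (conjS t V), t * y * t⁻¹ = y⁻¹ := fun y hy => by
        have m : t * y * (t * y) ∈ Nor V ⊓ Nor (conjS t V) := by
          have := mul_mem (cmem tn hy) hy
          rwa [inv_eq_of_mul_eq_one_right t2, mul_assoc] at this
        have := h.cit.two_of_sq (fun e => no t (by simpa using mul_mem e (inv_mem hy)) (oI t ht.1)) m
        have e : t * y * (t * y) = 1 := by_contra fun e => by
          obtain ⟨u, hu, u1, u2, -⟩ := H7.exists_fixed_order_p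
            (this.to_le (zpowers_le.2 (mul_mem (mem_zpowers _) (mem_zpowers _))))
            (this.to_le (zpowers_le.2 (mul_mem (mem_zpowers _) (mem_zpowers _)))) le_normalizer
            (zpowers_ne_bot.2 e)
          exact no u (zpowers_le.2 m hu) (orderOf_eq_prime u2 u1)
        rw [inv_eq_of_mul_eq_one_right t2, eq_inv_iff_mul_eq_one, mul_assoc, e]
      have c5 : Nat.card ↥(Nor V ⊓ Nor (conjS t V)) ≤ 5 := by
        rcases h.card_odd inf_le_left no (fun x hx y hy o _ => ⟨x, hx, o, by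
          have := iv _ (mul_mem hx hy)
          rw [← conj_mul, iv x hx, iv y hy, ← mul_inv_rev, inv_inj] at this
          exact this.symm⟩) with e | e | e <;> omega
      refine le_trans (Set.ncard_le_ncard_of_injOn (t := (Nor V ⊓ Nor (conjS t V) : Subgroup G))
        (fun s => t * s) (fun s hs => mem_inf.2 ⟨?_, ?_⟩) fun a _ b _ e => mul_left_cancel e)
        ((Nat.card_coe_set_eq _).ge.trans c5)
      · refine mem_normalizer_iff_conjS.2 ?_
        rw [← conjS_conjS, hs.2, conjS_conjS, t2, conjS_one]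
      · refine mem_normalizer_iff_conjS.2 ?_
        rw [← conjS_conjS, ← hs.2, conjS_conjS s, ii (oI s hs.1.1), conjS_one, hs.2])
  have b3 := Set.ncard_inter_add_ncard_sdiff_eq_ncard I C
  have b4 := h.col_card
  rw [nP] at b2
  omega

theorem card_le (h : Q4 V W) : Nat.card G ≤ 20160 := by
  have := (Set.ncard_le_ncard (s := {X | ∃ g ∈ (⊤ : Subgroup G), conjS g V = X})
    (by rintro _ ⟨g, -, rfl⟩; exact h.col g)).trans h.col_card
  rw [FT.ncard_conjS, relIndex_top_right] at this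
  rw [← (Nor V).card_mul_index, (h.card_T h.h4).2.2.2.2]
  omega

end Q4

end CIT
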