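import Cfsg.Agent.CIT.B1

/-! Recognition of `L₃(4)`: generators and relations. -/

set_option autoImplicit false
set_option linter.unusedVariables false
set_option linter.unusedSectionVars false

namespace CIT

open Cfsg Subgroup FT H4 H5 GW

variable {G : Type*} [Group G] [Finite G] {V W X Y : Subgroup G} {k c x y a v g t u w z : G}

theorem cube_one (hk : orderOf k = 3) : k * k * k = 1 := by
  rw [← pow_three', ← hk, pow_orderOf_eq_one]

theorem IsCIT.fpf (h : IsCIT G) (hk : orderOf k = 3) (h2 : x * x = 1) (e : k * x * k⁻¹ = x) :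
    x = 1 := by_contra fun x1 =>
  ord_ne_of_two (h.inv h2 x1) Nat.prime_three (by norm_num) (c1'.2 e) hk

theorem IsCIT.tri (h : IsCIT G) (hV : ∀ x ∈ V, x * x = 1) (hk : orderOf k = 3) (k1 : k ∈ Nor V)
    (hx : x ∈ V) : x * (k * x * k⁻¹) * (k⁻¹ * x * k) = 1 := by
  have m1 := cmem k1 hx
  have m2 := cmem' k1 hx
  have e : k * k = k⁻¹ := eq_inv_of_mul_eq_one_left (cube_one hk)
  refine h.fpf hk (hV _ (mul_mem (mul_mem hx m1) m2)) ?_
  calc _ = k * x * k⁻¹ * (k * k * x * (k * k)⁻¹) * x := by group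
    _ = _ := by rw [e, inv_inv, el_comm hV (mul_mem m1 m2) hx, mul_assoc x]

theorem Sw.conj (s : Sw V W w) (h1 : g ∈ Nor V) (h2 : g ∈ Nor W) : Sw V W (g * w * g⁻¹) :=
  ⟨mul_mem (mul_mem h1 s.nor) (inv_mem h1), by rw [conj_mul, s.sq]; group, by
    have := congrArg (conjS g) s.dis
    rw [conjS_inf, conjS_inf, mem_normalizer_iff_conjS.1 h1, mem_normalizer_iff_conjS.1 h2] at this
    rw [← conjS_conjS, ← conjS_conjS, mem_normalizer_iff_conjS.1 (inv_mem h2), this]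
    exact map_bot _⟩

namespace Q4

theorem exists_k (h : Q4 V W) (s : Sw V W w) :
    ∃ k ∈ Nor V ⊓ Nor W, orderOf k = 3 ∧ k ∈ Nor (V ⊓ conjS w W) := by
  have : Fact (Nat.Prime 3) := ⟨Nat.prime_three⟩
  have cB := (h.card_T h.h4).2.2.2.1
  obtain ⟨k, hk, ok⟩ := exists_orderOf_eq_prime_mem (p := 3) (N := Nor V ⊓ Nor W) (by rw [cB]; norm_num)
  obtain ⟨a, ha, l, l1, l2, l3, rfl⟩ := h.toPair.dec s hk.1 hk.2
  have lB : zpowers l ≤ Nor V ⊓ Nor W := zpowers_le.2 ⟨l1, h.norW l1 l2⟩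
  by_contra hn
  push Not at hn
  refine ord_ne_of_two h.top.isPGroup Nat.prime_three (by norm_num) (mul_mem (mem_sup_right ha)
    (h.two_mem (two_of_prime fun p hp p2 f hf o => ?_) (lB (mem_zpowers l)))) ok
  have := orderOf_dvd_natCard _ (lB hf)
  rw [o, cB, show 192 = 2 ^ 6 * 3 by norm_num] at this
  rcases (Nat.Prime.dvd_mul hp).1 this with e | e
  · exact p2 ((Nat.prime_dvd_prime_iff_eq hp Nat.prime_two).1 (hp.dvd_of_dvd_pow e))
  · exact hn f (lB hf) (o.trans ((Nat.prime_dvd_prime_iff_eq hp Nat.prime_three).1 e))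
      (zpowers_le.2 l3 hf)

theorem sw3 (h : Q4 V W) (s : Sw V W w) (hk : orderOf k = 3) (k1 : k ∈ Nor V) (k2 : k ∈ Nor W)
    (k3 : k ∈ Nor (V ⊓ conjS w W)) : ∃ u, Sw V W u ∧ u * k * u⁻¹ = k⁻¹ := by
  have m := h.inverts s k1 (minf k1 k2) k3
  have t := h.cit.tri h.l.el hk k1 m
  have e : w * k * w⁻¹ = w * k * (w * k) * k⁻¹ := by rw [s.inv]; group
  generalize w * k * (w * k) = v at *
  have m2 := cmem' k1 m
  have e1 : k⁻¹ * v * k * w * k * (k⁻¹ * v * k * w)⁻¹ = k⁻¹ := by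
    have e2 : k * k = k⁻¹ := eq_inv_of_mul_eq_one_left (cube_one hk)
    calc _ = k⁻¹ * v * k * (w * k * w⁻¹) * (k⁻¹ * v * k)⁻¹ := by group
      _ = k⁻¹ * v * k * (v * (k⁻¹ * k⁻¹ * v * (k * k))) * k⁻¹ := by
        rw [e, el_inv h.l.el m2]; group
      _ = _ := by
        rw [← mul_inv_rev, e2, inv_inv, el_comm h.l.el m2 (mul_mem m (cmem k1 m)), t, one_mul]
  have m3 : k⁻¹ * v * k * w * (k⁻¹ * v * k * w) ∈ V := by
    have := mul_mem m2 (cmem s.nor m2)
    rwa [s.inv, ← mul_assoc, ← mul_assoc, mul_assoc _ _ w] at this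
  refine ⟨_, ⟨mul_mem (le_normalizer m2) s.nor, h.cit.fpf hk (h.l.el _ m3) ?_, ?_⟩, e1⟩
  · generalize k⁻¹ * v * k * w = u at *
    calc _ = k * u * (u * k * u⁻¹)⁻¹ * u := by group
      _ = k * (u * k * u⁻¹) * (u * u) := by nth_rewrite 1 [e1]; group
      _ = _ := by rw [e1]; group
  · rw [← conjS_conjS, mem_normalizer_iff_conjS.1 ((h.toCP.conj' s.nor).nW m2), s.dis]

end Q4

/-- the generators -/
structure Cfg (V W : Subgroup G) (z k u w : G) : Prop where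
  q : Q4 V W
  hz : z ∈ V ⊓ W
  z1 : z ≠ 1
  ok : orderOf k = 3
  kV : k ∈ Nor V
  kW : k ∈ Nor W
  su : Sw V W u
  sw : Sw W V w
  uk : u * k * u⁻¹ = k⁻¹
  wk : w * k * w⁻¹ = k⁻¹
  be : w * z * w⁻¹ * (u * z * u⁻¹) * (w * z * w⁻¹)⁻¹ = z * (u * z * u⁻¹)

theorem inv_zp (e : u * k * u⁻¹ = k⁻¹) (hc : c ∈ zpowers k) : u * c * u⁻¹ = c⁻¹ := by
  obtain ⟨i, rfl⟩ := hc
  rw [← conj_zpow, e, inv_zpow]

theorem Q4.exists_cfg (h : Q4 V W) : ∃ z k u w, Cfg V W z k u w := by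
  have : Fact (Nat.Prime 3) := ⟨Nat.prime_three⟩
  have cB := (h.card_T h.h4).2.2.2.1
  obtain ⟨u0, s⟩ := h.toCP.exists_sw
  obtain ⟨w0, s'⟩ := h.symm.toCP.exists_sw
  obtain ⟨k, hk, ok, k3⟩ := h.exists_k s
  obtain ⟨l, hl, ol, l3⟩ := h.symm.exists_k s'
  have syl : ∀ k ∈ Nor V ⊓ Nor W, orderOf k = 3 → IsSylowOf 3 (zpowers k) (Nor V ⊓ Nor W) :=
    fun k hk ok => by
      refine ⟨zpowers_le.2 hk, isPGroup_zpowers_of_orderOf ok, ?_⟩
      have := card_mul_relIndex (zpowers_le.2 hk)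
      rw [Nat.card_zpowers, ok, cB] at this
      omega
  obtain ⟨b, hb, e⟩ := (syl k hk ok).exists_conj (syl l ⟨hl.2, hl.1⟩ ol)
  have k4 : k ∈ Nor (W ⊓ conjS (b⁻¹ * w0 * b⁻¹⁻¹) V) := by
    have := zpowers_le.2 l3 (e.le (conj_mem_conjS (mem_zpowers k)))
    rw [inv_inv, ← conjS_conjS, ← conjS_conjS, mem_normalizer_iff_conjS.1 hb.1,
      ← CP.conj_inf (inv_mem hb.2), ← conj_nor, mem_conjS, inv_inv]
    exact this
  obtain ⟨u, su, uk⟩ := h.sw3 s ok hk.1 hk.2 k3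
  obtain ⟨w, sw, wk⟩ := h.symm.sw3 (s'.conj (inv_mem hb.2) (inv_mem hb.1)) ok hk.2 hk.1 k4
  obtain ⟨z, hz, z1⟩ := h.toCP.exists_R
  obtain ⟨a, ha, ea⟩ := h.toCP.onto (su.mem hz).1 (su.not_mem hz z1) hz
  obtain ⟨r, hr, y, hy, rfl⟩ := h.symm.toCP.dec (h.symm.toCP.conj' sw.nor) sw.dis ha
  have ey : y * (u * z * u⁻¹) * y⁻¹ = z * (u * z * u⁻¹) := by
    have m := mul_mem hz.1 (su.mem hz).1
    calc _ = r⁻¹ * (r * y * (u * z * u⁻¹) * (r * y)⁻¹) * r := by group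
      _ = _ := by rw [ea, mul_assoc r⁻¹, el_comm h.l.el m hr.2]; group
  have y1 : y ≠ 1 := fun e => z1 (by simpa [e] using ey)
  have my := sw.mem' hy.1 hy.2
  have kR := minf hk.1 hk.2
  have kz : k * z * k⁻¹ ≠ z := fun e => z1 (h.cit.fpf ok (h.l.el z hz.1) e)
  have f : F4 z (k * z * k⁻¹) := ⟨orderOf_eq_two' (h.l.el z hz.1) z1,
    iconj (orderOf_eq_two' (h.l.el z hz.1) z1) k, el_comm h.l.el hz.1 (cmem kR hz).1, kz⟩
  have : ∃ c ∈ zpowers k, c * z * c⁻¹ = w * y * w⁻¹ := by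
    rcases f.mem_V.1 ((F4.eq_V f hz (cmem kR hz) h.h4).ge ⟨my.2, my.1⟩) with e | e | e | e
    · exact (y1 (by simpa using e)).elim
    · exact ⟨1, one_mem _, by rw [e]; group⟩
    · exact ⟨k, mem_zpowers k, e.symm⟩
    · refine ⟨k⁻¹, inv_mem (mem_zpowers k), ?_⟩
      rw [e, eq_inv_of_mul_eq_one_left (h.cit.tri h.l.el ok hk.1 hz.1),
        el_inv h.l.el (cmem' hk.1 hz.1), inv_inv]
  obtain ⟨c, hc, e⟩ := this
  have cB := zpowers_le.2 hk hc
  refine ⟨z, k, u, w * c, h, hz, z1, ok, hk.1, hk.2, su, ⟨mul_mem sw.nor cB.2, ?_, ?_⟩, uk, ?_, ?_⟩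
  · calc _ = w * c * w⁻¹ * c := by rw [sw.inv]; group
      _ = 1 := by rw [inv_zp wk hc]; group
  · rw [← conjS_conjS, mem_normalizer_iff_conjS.1 cB.1, sw.dis]
  · obtain ⟨i, rfl⟩ := hc
    rw [← wk]; group
  · have : w * c * z * (w * c)⁻¹ = y := by rw [← sw.ww y, ← e]; group
    rw [this, ey]

namespace Cfg

theorem zW (h : Cfg V W z k u w) : z ∈ W ⊓ V := ⟨h.hz.2, h.hz.1⟩

theorem symm (h : Cfg V W z k u w) : Cfg W V z k w u := by
  refine ⟨h.q.symm, h.zW, h.z1, h.ok, h.kW, h.kV, h.sw, h.su, h.wk, h.uk, ?_⟩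
  have e := h.be
  have ha := (h.sw.mem h.zW).1
  have hb := (h.su.mem h.hz).1
  generalize w * z * w⁻¹ = a at *
  generalize u * z * u⁻¹ = b at *
  calc _ = (a * b * a⁻¹ * b⁻¹)⁻¹ * a := by group
    _ = _ := by rw [e, mul_inv_cancel_right, el_inv h.q.l.el h.hz.1]

theorem gam (h : Cfg V W z k u w) (hx : x ∈ V ⊓ W) :
    w * z * w⁻¹ * (u * x * u⁻¹) * (w * z * w⁻¹)⁻¹ = x * (u * x * u⁻¹) := by
  obtain ⟨n, n1, n2, e⟩ := h.q.lin h.su (h.sw.mem h.zW).1 (h.sw.not_mem h.zW h.z1)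
  have e1 := e z h.hz
  rw [h.be, mul_inv_cancel_right] at e1
  rw [← mul_inv_eq_iff_eq_mul, e x hx, h.q.fixR ((h.q.cen1 h.hz h.z1).le (c1'.2 e1.symm)) hx]

theorem cube (h : Cfg V W z k u w) : (u * (w * z * w⁻¹)) ^ 3 = 1 := by
  have ha := (h.sw.mem h.zW).1
  have gam := fun x hx => h.gam (x := x) hx
  generalize w * z * w⁻¹ = a at *
  have g1 : ∀ x ∈ V ⊓ W, u * a * x * (u * a)⁻¹ = u * x * u⁻¹ := fun x hx => by
    calc _ = u * (a * x * a⁻¹) * u⁻¹ := by group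
      _ = _ := by rw [h.q.fixR (mem_sup_right ha) hx]
  have g2 : ∀ x ∈ V ⊓ W, u * a * (u * x * u⁻¹) * (u * a)⁻¹ = u * x * u⁻¹ * x := fun x hx => by
    calc _ = u * (a * (u * x * u⁻¹) * a⁻¹) * u⁻¹ := by group
      _ = u * x * u⁻¹ * (u * (u * x * u⁻¹) * u⁻¹) := by rw [gam x hx]; group
      _ = _ := by rw [h.su.ww]
  have key : u * a ∈ V → False := fun e => h.q.sw_ne h.su (mem_normalizer_iff_conjS.1
    (by simpa using mul_mem (h.q.nW e) (inv_mem (le_normalizer ha))))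
  generalize u * a = g at *
  have g3 : ∀ x ∈ V ⊓ W, g ^ 3 * x * (g ^ 3)⁻¹ = x := fun x hx => by
    calc _ = g * (g * (g * x * g⁻¹) * g⁻¹) * g⁻¹ := by rw [pow_three']; group
      _ = g * (u * x * u⁻¹ * x) * g⁻¹ := by rw [g1 x hx, g2 x hx]
      _ = g * (u * x * u⁻¹) * g⁻¹ * (g * x * g⁻¹) := by group
      _ = x := by
        rw [g1 x hx, g2 x hx, el_comm h.q.l.el (h.su.mem hx).1 hx.1, mul_assoc x,
          h.q.l.el _ (h.su.mem hx).1, mul_one]
  have m : g ^ 3 ∈ V := h.q.cV.le (cen.2 fun v hv => by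
    obtain ⟨r, hr, s, hs, rfl⟩ := h.q.toCP.dec (h.q.toCP.conj' h.su.nor) h.su.dis hv
    have e1 := g3 r hr
    have e2 := g3 _ (h.su.mem' hs.1 hs.2)
    have e3 := g1 _ (h.su.mem' hs.1 hs.2)
    rw [h.su.ww] at e3
    generalize u * s * u⁻¹ = x at *
    rw [← mul_inv_eq_iff_eq_mul, ← e3]
    calc _ = g ^ 3 * r * (g ^ 3)⁻¹ * (g * (g ^ 3 * x * (g ^ 3)⁻¹) * g⁻¹) := by group
      _ = _ := by rw [e1, e2])
  by_contra hne
  obtain ⟨j, hj⟩ := isPGroup_iff_forall.1 (h.q.cit.inv (h.q.l.el _ m) hne) g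
    (c1.2 (Commute.self_pow _ 3))
  exact key (H4.mem_of_pow_mem_of_coprime m
    (Nat.Coprime.coprime_dvd_left (orderOf_dvd_of_pow_eq_one hj)
      (Nat.Coprime.pow_left j (by norm_num))))

theorem nk (e : u * k * u⁻¹ = k⁻¹) (hX : k ∈ Nor X) : k ∈ Nor (conjS u X) := by
  rw [← conj_nor, mem_conjS]
  have : u⁻¹ * k * u = k⁻¹ := by
    calc _ = (u⁻¹ * k⁻¹ * u)⁻¹ := by group
      _ = _ := by rw [← e]; group; rw [zpow_neg, zpow_neg, zpow_one, zpow_one, e]
  exact this ▸ inv_mem hX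

theorem fixpt (h : Cfg V W z k u w) (hg : k ∈ Nor (conjS g V)) :
    conjS g V = V ∨ conjS g V = conjS w V ∨ conjS g V = conjS (u * w) V := by
  refine or_iff_not_imp_left.2 fun hne => ?_
  obtain ⟨Y, f1, f2⟩ := h.q.col g
  have k1 : k ∈ Nor Y := by
    have f3 := f1.conj k
    have f4 := f2.conj k
    rw [mem_normalizer_iff_conjS.1 h.kV] at f3
    rw [mem_normalizer_iff_conjS.1 hg] at f4
    exact mem_normalizer_iff_conjS.2 ((h.q.uniq f1 f3 f2 f4).resolve_left (Ne.symm hne)).symm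
  have two : ∀ X, Fl V W X W → k ∈ Nor X → X = V ∨ X = conjS w V := fun X f e =>
    h.q.symm.two_lines h.sw Nat.prime_three (by norm_num) h.ok h.kW h.kV (nk h.wk h.kV) f.symm e
  rcases h.q.two_lines h.su Nat.prime_three (by norm_num) h.ok h.kV h.kW (nk h.uk h.kW) f1 k1
    with rfl | rfl
  · exact Or.inl ((two _ f2 hg).resolve_left hne)
  · have f3 := f2.conj u
    rw [conjS_conjS u u, h.su.sq, conjS_one] at f3
    have uu : ∀ X : Subgroup G, conjS u (conjS u X) = X := fun X => by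
      rw [conjS_conjS, h.su.sq, conjS_one]
    rcases two _ f3 (nk h.uk hg) with e | e
    · exact (hne (by rw [← uu (conjS g V), e, mem_normalizer_iff_conjS.1 h.su.nor])).elim
    · exact Or.inr (by rw [← uu (conjS g V), e, conjS_conjS])

theorem braid_mem (h : Cfg V W z k u w) : (w * u) ^ 3 ∈ zpowers k := by
  have ww : ∀ X : Subgroup G, conjS w (conjS w X) = X := fun X => by
    rw [conjS_conjS, h.sw.sq, conjS_one]
  have uu : ∀ X : Subgroup G, conjS u (conjS u X) = X := fun X => by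
    rw [conjS_conjS, h.su.sq, conjS_one]
  have eu := mem_normalizer_iff_conjS.1 h.su.nor
  have n1 := h.q.symm.sw_ne h.sw
  have m : (w * u) ^ 3 ∈ Nor V := by
    have := nk h.wk (nk h.uk (nk h.wk h.kV))
    rw [conjS_conjS, conjS_conjS] at this
    rcases h.fixpt this with e | e | e
    · have f1 : Fl V W (conjS w V) W := (Q4.fl_sw h.sw).symm
      have f2 := f1.conj u
      rw [← conjS_conjS, ← conjS_conjS] at e
      rw [← ww (conjS u (conjS w V)), e] at f2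
      exact ((h.q.uniq (Fl.refl V W) (Q4.fl_sw h.su) f1 f2).elim n1.symm
        (h.q.sw_ne h.su).symm).elim
    · rw [← conjS_conjS, ← conjS_conjS] at e
      exact (n1 (by rw [← uu (conjS w V), conjS_injective w e, eu])).elim
    · rw [mem_normalizer_iff_conjS, pow_three', show w * u * (w * u) * (w * u) =
        w * (u * (w * u * w)) * u by group, ← conjS_conjS, eu, ← conjS_conjS, ← conjS_conjS, e,
        ← conjS_conjS, uu, ww]
  have c : (w * u) ^ 3 ∈ Cen1 k := pow_mem (c1'.2 (by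
    calc _ = w * (u * k * u⁻¹) * w⁻¹ := by group
      _ = (w * k * w⁻¹)⁻¹ := by rw [h.uk]; group
      _ = k := by rw [h.wk, inv_inv])) 3
  have l : zpowers k ≤ Nor V ⊓ Cen1 k := zpowers_le.2 ⟨h.kV, c1.2 rfl⟩
  have d := card_dvd_of_le l
  rw [Nat.card_zpowers, h.ok] at d
  refine (eq_of_le_of_card_ge l ?_).ge ⟨m, c⟩
  rw [Nat.card_zpowers, h.ok]
  rcases h.q.card_odd (A := Nor V ⊓ Cen1 k) inf_le_left
    (fun t ht o => ine o (h.q.cit.fpf h.ok (ii o) (c1'.1 (c1s.1 ht.2))))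
    (fun x _ y hy _ _ => ⟨k, l (mem_zpowers k), h.ok, (c1.1 hy.2).symm⟩) with e | e | e <;> omega

theorem braid (h : Cfg V W z k u w) : (w * u) ^ 3 = 1 := by
  have m := h.braid_mem
  have e1 := h.cube
  have e2 := h.symm.cube
  have ui := h.su.inv
  have wi := h.sw.inv
  have zz := h.q.l.el z h.hz.1
  have uu := h.su.sq
  have ww := h.sw.sq
  rw [wi, pow_three'] at e1
  rw [ui, pow_three'] at e2
  have aux : ∀ {u w : G}, u * u = 1 → w * w = 1 →
      u * (w * z * w) * (u * (w * z * w)) * (u * (w * z * w)) = 1 →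
      w * u * w = z * (w * u * w) * z * (w * u * w) * z := fun {u w} uu ww e => by
    calc _ = w * u * (u * (w * z * w) * (u * (w * z * w)) * (u * (w * z * w))) * w := by
          rw [e, mul_one]
      _ = w * (u * u) * w * z * (w * u * w) * z * (w * u * w) * z * (w * w) := by group
      _ = _ := by rw [uu, mul_one, ww, mul_one, one_mul]
  have p1 := aux uu ww e1
  have q1 := aux ww uu e2
  have qc : u * w * u * (w * u) ^ 3 * (u * w * u)⁻¹ = ((w * u) ^ 3)⁻¹ := by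
    generalize (w * u) ^ 3 = c at *
    calc _ = u * (w * (u * c * u⁻¹) * w⁻¹) * u⁻¹ := by group
      _ = _ := by rw [inv_zp h.uk m, inv_zp h.wk (inv_mem m), inv_inv, inv_zp h.uk m]
  have qq : u * w * u * (u * w * u) = 1 := by
    calc _ = u * w * (u * u) * w * u := by group
      _ = 1 := by rw [uu, mul_one, mul_assoc u, ww, mul_one, uu]
  have pq : w * u * w = (w * u) ^ 3 * (u * w * u) := by
    calc _ = w * u * w * (u * w * u * (u * w * u)) := by rw [qq, mul_one]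
      _ = _ := by rw [pow_three']; group
  generalize (w * u) ^ 3 = c at *
  generalize w * u * w = p at *
  generalize u * w * u = q at *
  subst pq
  have qi : q⁻¹ = q := inv_eq_of_mul_eq_one_right qq
  have cq : c * q = q * c⁻¹ := by rw [← qc, qi]; rw [← mul_assoc, ← mul_assoc, qq, one_mul]
  have r2 := h.q.l.el _ (mul_mem (cmem' (zpowers_le.2 h.kV m) h.hz.1) h.hz.1)
  have e : c = z * q * (c⁻¹ * z * c * z) * q * z := by
    calc c = c * q * q := by rw [mul_assoc, qq, mul_one]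
      _ = z * (c * q) * z * (c * q) * z * (z * q * z * q * z) := by rw [← p1, ← q1]
      _ = z * (c * q) * z * c * (q * (z * z) * q) * z * q * z := by group
      _ = _ := by rw [zz, mul_one, qq, cq]; group
  have c2 : c * c = 1 := by
    generalize c⁻¹ * z * c * z = r at *
    rw [e]
    calc _ = z * q * r * (q * (z * z) * q) * r * q * z := by group
      _ = 1 := by rw [zz, mul_one, qq, mul_one, mul_assoc _ r r, r2, mul_one, mul_assoc z, qq, mul_one, zz]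
  exact eq_one_of_odd_sq (odd_ord (by rw [Nat.card_zpowers, h.ok]; decide) m) c2

end Cfg

end CIT
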