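import Cfsg.Agent.CIT.B2
import Cfsg.Agent.CIT.B3
import Cfsg.Agent.H2.Psl34
import Cfsg.Agent.H8.SLn

/-! Recognition of `L₃(4)`. -/

set_option autoImplicit false
set_option linter.unusedVariables false

namespace CIT

open Subgroup Matrix

abbrev S34 := SpecialLinearGroup (Fin 3) H2.F4

def mz : S34 := ⟨!![1, 0, 1; 0, 1, 0; 0, 0, 1], by rw [det_fin_three]; decide +kernel⟩
def mk : S34 := ⟨!![⟨2⟩, 0, 0; 0, ⟨3⟩, 0; 0, 0, 1], by rw [det_fin_three]; decide +kernel⟩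
def mK : S34 := ⟨!![⟨3⟩, 0, 0; 0, ⟨2⟩, 0; 0, 0, 1], by rw [det_fin_three]; decide +kernel⟩
def mu : S34 := ⟨!![0, 1, 0; 1, 0, 0; 0, 0, 1], by rw [det_fin_three]; decide +kernel⟩
def mw : S34 := ⟨!![1, 0, 0; 0, 0, 1; 0, 1, 0], by rw [det_fin_three]; decide +kernel⟩
def ma : S34 := ⟨!![1, 1, 0; 0, 1, 0; 0, 0, 1], by rw [det_fin_three]; decide +kernel⟩
def mb : S34 := ⟨!![1, 0, 0; 0, 1, 1; 0, 0, 1], by rw [det_fin_three]; decide +kernel⟩
def mb' : S34 := ⟨!![1, 0, 0; 0, 1, ⟨3⟩; 0, 0, 1], by rw [det_fin_three]; decide +kernel⟩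

theorem mk_inv : mk⁻¹ = mK := inv_eq_of_mul_eq_one_right (by decide +kernel)

theorem mkb : mk * mb * mK = mb' := by decide +kernel

abbrev pr : S34 →* ProjectiveSpecialLinearGroup (Fin 3) H2.F4 := QuotientGroup.mk' _

theorem rel_model : Rel (pr mz) (pr mk) (pr mu) (pr ma) (pr mb) (pr mw) := by
  have e : ∀ x : S34, x = 1 → pr x = 1 := fun x h => h ▸ map_one _
  refine ⟨?_, ?_, ?_, ?_, ?_, ?_, ?_, ?_, ?_, ?_, ?_, ?_, ?_, ?_, ?_, ?_⟩
  all_goals simp only [← map_inv, ← map_mul, mk_inv, mkb]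
  case refine_14 =>
    exact (QuotientGroup.eq_one_iff _).2 (Matrix.SpecialLinearGroup.mem_center_iff.2
      ⟨(⟨3⟩ : H2.F4), by decide +kernel, by decide +kernel⟩)
  all_goals exact e _ (by decide +kernel)

theorem trans_mem : ∀ (i j : Fin 3) (hij : i ≠ j) (c : H2.F4), c = 0 ∨
    ∃ p ∈ [(1, 1), (mu, mu), (mw, mw), (mu * mw, mw * mu), (mw * mu, mu * mw),
      (mu * mw * mu, mu * mw * mu)], ∃ x ∈ [mz, mk * mz * mK, mK * mz * mk],
      (1 : Matrix (Fin 3) (Fin 3) H2.F4) + single i j c = (p.1 * x * p.2).1 := by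
  decide +kernel

theorem gen_model {A : Subgroup S34} (hz : mz ∈ A) (hk : mk ∈ A) (hu : mu ∈ A) (hw : mw ∈ A)
    (M : S34) : M ∈ A := by
  have hK : mK ∈ A := mk_inv ▸ inv_mem hk
  refine H8.sl_induction (· ∈ A) (fun i j hij c => ?_) (fun _ _ => mul_mem) M
  rcases trans_mem i j hij c with rfl | ⟨p, hp, x, hx, e⟩
  · rw [SpecialLinearGroup.transvection_coeff_zero]; exact one_mem _
  rw [show SpecialLinearGroup.transvection hij c = p.1 * x * p.2 from Subtype.ext e]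
  simp only [List.mem_cons, List.not_mem_nil, or_false] at hp hx
  refine mul_mem (mul_mem ?_ ?_) ?_
  · rcases hp with rfl | rfl | rfl | rfl | rfl | rfl <;> simp only [mul_mem, one_mem, *]
  · rcases hx with rfl | rfl | rfl <;> simp only [mul_mem, *]
  · rcases hp with rfl | rfl | rfl | rfl | rfl | rfl <;> simp only [mul_mem, one_mem, *]

theorem iso_of_rel {G : Type*} [Group G] [Finite G] {z k u a b w : G} (h : Rel z k u a b w)
    (z1 : z ≠ 1) (hc : Nat.card G ≤ 20160) :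
    Nonempty (G ≃* ProjectiveSpecialLinearGroup (Fin 3) H2.F4) := by
  obtain ⟨hs, cM⟩ := H2.psl34_simple H2.F4 H2.F4.card_F4
  have c := (h.prod rel_model).card
  generalize hΓ : closure ({(z, pr mz), (k, pr mk), (u, pr mu), (a, pr ma), (b, pr mb),
    (w, pr mw)} : Set _) = Γ at c
  have m : ∀ x ∈ ({(z, pr mz), (k, pr mk), (u, pr mu), (a, pr ma), (b, pr mb),
    (w, pr mw)} : Set _), x ∈ Γ := fun x hx => hΓ ▸ subset_closure hx
  let p := (MonoidHom.fst G _).comp Γ.subtype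
  let q := (MonoidHom.snd G _).comp Γ.subtype
  have qs : Function.Surjective q := fun y => by
    obtain ⟨M, rfl⟩ := QuotientGroup.mk'_surjective _ y
    exact gen_model (A := q.range.comap pr) ⟨⟨_, m (z, pr mz) (by simp)⟩, rfl⟩
      ⟨⟨_, m (k, pr mk) (by simp)⟩, rfl⟩ ⟨⟨_, m (u, pr mu) (by simp)⟩, rfl⟩ ⟨⟨_, m (w, pr mw) (by simp)⟩, rfl⟩ M
  let e := MulEquiv.ofBijective q (qs.bijective_of_nat_card_le (cM ▸ c))
  let ψ := p.comp e.symm.toMonoidHom
  have i : Function.Injective ψ := by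
    rcases ψ.normal_ker.eq_bot_or_eq_top with k | k
    · exact (MonoidHom.ker_eq_bot_iff ψ).1 k
    · have : ψ (e ⟨_, m (z, pr mz) (by simp)⟩) = 1 := k.ge (mem_top _)
      exact (z1 (by simpa [ψ, p] using this)).elim
  exact ⟨(MulEquiv.ofBijective ψ (i.bijective_of_nat_card_le (cM ▸ hc))).symm⟩

theorem Cfg.rel {G : Type*} [Group G] [Finite G] {V W : Subgroup G} {z k u w : G}
    (h : Cfg V W z k u w) : Rel z k u (w * z * w⁻¹) (u * z * u⁻¹) w := by
  have ha := (h.sw.mem h.zW).1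
  have hb := (h.su.mem h.hz).1
  have aa := h.q.r.el _ ha
  have bb := h.q.l.el _ hb
  have zz := h.q.l.el z h.hz.1
  have inv : ∀ {u : G}, u * u = 1 → u * k * u⁻¹ = k⁻¹ → u * k * u * k = 1 := fun uu e => by
    rw [inv_eq_of_mul_eq_one_right uu] at e
    rw [e, inv_mul_cancel]
  have df : ∀ {u : G}, u * u = 1 → u * z * u⁻¹ * u * z * u = 1 := fun uu => by
    rw [inv_mul_cancel_right, mul_assoc _ z z, zz, mul_one, uu]
  have g1 := h.be
  have m := GW.cmem' (GW.minf h.kV h.kW) h.hz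
  have g2 := h.gam m
  have e : u * (k⁻¹ * z * k) * u⁻¹ = k * (u * z * u⁻¹) * k⁻¹ := by
    calc _ = (u * k * u⁻¹)⁻¹ * (u * z * u⁻¹) * (u * k * u⁻¹) := by group
      _ = _ := by rw [h.uk, inv_inv]
  have b2 := h.q.l.el _ (GW.cmem h.kV hb)
  rw [e] at g2
  refine ⟨zz, h.su.sq, aa, bb, h.sw.sq, cube_one h.ok, inv h.su.sq h.uk,
    h.q.cit.tri h.q.l.el h.ok h.kV h.hz.1, df h.su.sq, h.q.cit.tri h.q.r.el h.ok h.kW ha, ?_, ?_,
    pow_three' (u * (w * z * w⁻¹)) ▸ h.cube, inv h.sw.sq h.wk, df h.sw.sq,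
    pow_three' (u * w) ▸ h.symm.braid⟩
  · rw [inv_eq_of_mul_eq_one_right aa] at g1
    rw [g1, mul_assoc z, bb, mul_one, zz]
  · rw [inv_eq_of_mul_eq_one_right aa] at g2
    rw [g2, mul_assoc (k⁻¹ * z * k), b2, mul_one, h.q.l.el _ m.1]

theorem Q4.psl {G : Type*} [Group G] [Finite G] {V W : Subgroup G} (h : Q4 V W) :
    Nonempty (G ≃* ProjectiveSpecialLinearGroup (Fin 3) H2.F4) :=
  let ⟨_, _, _, _, c⟩ := h.exists_cfg
  iso_of_rel c.rel c.z1 h.card_le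

universe u

theorem l34 : L34Thm.{u} := fun G _ _ _ V W h => ⟨H2.F4, _, _, H2.F4.card_F4, h.q4.psl⟩

end CIT
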