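import Cfsg.Agent.CIT.Def
import Cfsg.Agent.BS.SE
import Cfsg.Agent.BS.SECor
import Cfsg.Agent.H2.TwoB
import Cfsg.Agent.H5.Dich2
import Cfsg.Agent.GW.L4

/-! Groups with 2-nilpotent involution centralizers: the strongly embedded case and fusion. -/

set_option autoImplicit false
set_option linter.unusedVariables false
set_option linter.unusedSectionVars false

namespace CIT

open Cfsg Subgroup FT H4 H5 GW

universe u

/-- a simple group with a strongly embedded subgroup and 2-nilpotent involution centralizers -/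
theorem concl_of_se {G : Type u} [Group G] [Finite G] [hs : IsSimpleGroup G]
    (hG : ¬ IsMulCommutative G) (hI : ∀ t : G, orderOf t = 2 → H7.NPC 2 (Cen1 t))
    {H : Subgroup G} (hH : IsStronglyEmbedded H) : Concl G := by
  have hO := BS.oddCore_of_simple (BS.even_of_simple hG)
  obtain ⟨Q, D, t, h, c⟩ := BS.seThm G H hH (BS.rk2_top_iff.mp (BS.rk2_of_se hH hO)) hO
  have e : BS.Fg Q t = ⊤ := (hs.eq_bot_or_eq_top_of_normal _ h.Fg_normal).resolve_left fun e =>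
    h.toA1.t_ne_one (mem_bot.mp (e ▸ mem_sup_right (mem_zpowers t)))
  have φ : G ≃* BS.Fg Q t := topEquiv.symm.trans (MulEquiv.subgroupCongr e.symm)
  obtain ⟨s, hs⟩ := h.toA1.exists_dist
  obtain ⟨n, hn, e'⟩ := h.toA1.card_Q0 h.a3
  rcases c.tri s hs with ⟨-, -, F, i1, i2, h1, h2⟩ | ⟨-, -, -, m, F, i1, i2, h1, h2, -, h3⟩ |
    ⟨-, -, -, ⟨w, w1, w2, w3⟩, -⟩
  · obtain ⟨f⟩ := h.equiv_of_cquot h2
    refine Or.inl ⟨F, i1, i2, ?_, ⟨φ.trans f⟩⟩
    rw [h1, e']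
    exact Nat.pow_le_pow_right two_pos hn
  · obtain ⟨f⟩ := h.equiv_of_cquot h3
    exact Or.inr (Or.inl ⟨F, i1, i2, m, h1, h2, ⟨φ.trans f⟩⟩)
  · refine absurd ((hI s (orderOf_eq_two' hs.2.2.1 hs.2.1)).mem_centralizer c.two
      (fun x hx => c1.2 (h.toA1.inv_comm h.a3 hs.1 hs.2.2.1 hx))
      (c1.2 (cen.1 w2 s ((h.toA1.mem_Q0 h.a3).2 ⟨hs.1, hs.2.2.1⟩))) (h.sd.nor w1)
      (odd_iff_cop.1 (odd_ord h.odd w1))) w3

theorem concl_of_se' {G : Type u} [Group G] [Finite G] [IsSimpleGroup G]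
    (hG : ¬ IsMulCommutative G) (hI : ∀ t : G, orderOf t = 2 → HasNormalPComplement 2 (Cen1 t))
    {H : Subgroup G} (hH : IsStronglyEmbedded H) : Concl G :=
  concl_of_se hG (fun t ht => H7.hasNormalPComplement_iff.1 (hI t ht)) hH

theorem concl_of_se_cit {G : Type u} [Group G] [Finite G] [IsSimpleGroup G]
    (hG : ¬ IsMulCommutative G) (hI : IsCIT G) {H : Subgroup G} (hH : IsStronglyEmbedded H) :
    Concl G :=
  concl_of_se hG (fun t ht => H7.npc_of_isPGroup (hI t ht)) hH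

variable {G : Type*} [Group G] [Finite G] {S H M : Subgroup G} {z x g : G}

/-- fusion in a 2-nilpotent group is controlled by a Sylow 2-subgroup -/
theorem npc_fus (h : H7.NPC 2 H) (hS : IsSylowOf 2 S H) (hg : g ∈ H) (hx : x ∈ S)
    (hy : g * x * g⁻¹ ∈ S) : ∃ s ∈ S, s * x * s⁻¹ = g * x * g⁻¹ := by
  obtain ⟨N, h1, h2, h3, h4⟩ := h
  obtain ⟨o, ho, s, hs, rfl⟩ := (H7.mem_sup_of_le_normalizer_left (hS.le.trans h2)).1
    (H7.le_sup_sylow h2 h4 hS hg)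
  refine ⟨s, hs, ?_⟩
  have h5 := mul_mem (mul_mem hs hx) (inv_mem hs)
  have h6 : o * s * x * (o * s)⁻¹ * (s * x * s⁻¹)⁻¹ ∈ N ⊓ S := ⟨H5.mem_of_eq
    (mul_mem ho (cmem (h2 (hS.le h5)) (inv_mem ho))) (by group), S.mul_mem hy (S.inv_mem h5)⟩
  rw [eq_bot_of_pGroup_coprime (hS.isPGroup.to_le inf_le_right)
    (Nat.Coprime.coprime_dvd_left (card_dvd_of_le inf_le_left) h3), mem_bot, mul_inv_eq_one] at h6
  exact h6.symm

/-- a transfer lemma -/
theorem no_index_two (h2 : ∀ N : Subgroup G, N.Normal → N.index ≠ 2) (hS : IsSylowOf 2 S ⊤)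
    (hz : orderOf z = 2) (hc : S ≤ Cen1 z) (hn : H7.NPC 2 (Cen1 z)) (hM : M ≤ S)
    (hi : M.relIndex S = 2) (h1 : ∀ y ∈ S, y ∉ M → y * y ≠ 1 ∧ z ∈ zpowers y)
    (h3 : ∀ y ∈ M, y * y ≠ 1 → ∃ n, n * y * n⁻¹ ∈ M ∧ z ∈ zpowers (n * y * n⁻¹)) : False := by
  obtain ⟨a, ha, ha'⟩ := relIndex_eq_two_iff.1 hi
  have a1 : a ∉ M := fun e => (ha' 1 (one_mem _)).elim (fun h => h.2 (one_mem _))
    fun h => h.2 (by rwa [one_mul])
  obtain ⟨x, ⟨x1, x2⟩, hx⟩ := exists_minimalFor_of_wellFoundedLT (fun y => y ∈ S ∧ y ∉ M)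
    (fun y => orderOf y) ⟨a, ha, a1⟩
  obtain ⟨n, hn'⟩ := IsPGroup.iff_orderOf.1 hS.isPGroup ⟨x, x1⟩
  rw [← Subgroup.orderOf_coe] at hn'
  replace hn' : orderOf x = 2 ^ n := hn'
  have n0 : n ≠ 0 := fun e => x2 (by
    rw [e, pow_zero, orderOf_eq_one_iff] at hn'; rw [hn']; exact one_mem _)
  obtain ⟨g, hg⟩ := H2.transfer_large_order (fun N e => h2 N (normal_of_index_eq_two e) e) S
    (by rw [← Nat.not_even_iff_odd, even_iff_two_dvd, ← relIndex_top_right]; exact hS.not_dvd)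
    M hi n (fun y y1 y2 => by
      have := @hx y ⟨y1, y2⟩
      have h4 : 2 ^ (n - 1) < 2 ^ n := Nat.pow_lt_pow_right one_lt_two (by omega)
      simp only at this
      omega) x hn'
  obtain ⟨k, k1, k2⟩ := h3 _ hg fun e => (h1 x x1 x2).1 (by
    calc x * x = g⁻¹ * (g * x * g⁻¹ * (g * x * g⁻¹)) * g := by group
      _ = 1 := by rw [e]; group)
  have e : k * (g * x * g⁻¹) * k⁻¹ = k * g * x * (k * g)⁻¹ := by group
  rw [e] at k1 k2
  have h4 : k * g ∈ Cen1 z := c1'.2 (inv_uniq (by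
    obtain ⟨i, hi⟩ := (h1 x x1 x2).2
    exact ⟨i, by simp only at hi ⊢; rw [conj_zpow, hi]⟩) k2 (iconj hz _) hz)
  obtain ⟨s, hs, e'⟩ := npc_fus hn (hS.of_le hc le_top) h4 x1 (hM k1)
  have hN : S ≤ Nor M := (normal_subgroupOf_iff_le_normalizer hM).1 (normal_of_index_eq_two hi)
  exact x2 (H5.mem_of_eq (cmem' (hN hs) (e' ▸ k1)) (by group))

end CIT
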