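import Cfsg.Agent.CIT.R1
import Cfsg.Agent.P.C4
import Cfsg.Agent.P.A
import Cfsg.Agent.H3.ZCor
import Cfsg.Agent.H6.Basic
import Cfsg.Agent.GW.Cv1
import Cfsg.Agent.Ly.T4
import Cfsg.Agent.Ly.Red
import Cfsg.Agent.W.Main

/-! Groups with 2-nilpotent involution centralizers and 2-rank at most two. -/

set_option autoImplicit false
set_option linter.unusedVariables false
set_option linter.unusedSectionVars false

namespace CIT

open Cfsg Subgroup FT H4 H5 GW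

universe u

variable {G : Type*} [Group G] [Finite G] {S : Subgroup G} {z u v s g : G}

theorem sq_V {a b y : G} (f : F4 a b) (hy : y ∈ V4 a b) : y * y = 1 := by
  rcases f.mem_V.1 hy with e | e | e | e <;> rw [e]
  exacts [mul_one 1, ii f.ht, ii f.ha, f.sq]

theorem mem_V_of_rank (h : PRankLE 2 2 G) {a b c : G} (f : F4 a b) (h1 : c ∈ Cen1 a)
    (h2 : c ∈ Cen1 b) (h3 : c * c = 1) : c ∈ V4 a b := by
  have hc : V4 a b ≤ Cen1 c := V_le (c1s.1 h1) (c1s.1 h2)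
  have hm : ∀ x ∈ V4 a b ⊔ zpowers c, ∃ v ∈ V4 a b, x = v ∨ x = v * c := fun x hx => by
    obtain ⟨v, hv, w, hw, rfl⟩ := (H7.mem_sup_of_le_normalizer_left
      (cnor (zp_le_cen.2 hc))).1 hx
    exact ⟨v, hv, (mem_zp2 h3 hw).imp (fun e => by rw [e, mul_one]) fun e => by rw [e]⟩
  have hv : ∀ v ∈ V4 a b, ∀ w ∈ V4 a b, v * w = w * v := fun v hv w hw =>
    congrArg Subtype.val (f.comm_V.1.1 ⟨v, hv⟩ ⟨w, hw⟩)
  have h4 := h (V4 a b ⊔ zpowers c) ⟨⟨fun x y => Subtype.ext (by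
    obtain ⟨v, v1, v2⟩ := hm x x.2
    obtain ⟨w, w1, w2⟩ := hm y y.2
    have e1 : Commute v w := hv v v1 w w1
    have e2 : Commute v c := c1.1 (hc v1)
    have e3 : Commute w c := c1.1 (hc w1)
    show (x : G) * y = y * x
    rcases v2 with e | e <;> rcases w2 with e' | e' <;> rw [e, e']
    · exact e1
    · exact e1.mul_right e2
    · exact e1.mul_left e3.symm
    · exact (e1.mul_right e2).mul_left (e3.symm.mul_right (Commute.refl c)))⟩⟩ fun x hx => by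
      obtain ⟨v, v1, v2⟩ := hm x hx
      have e1 := sq_V f v1
      have e2 : Commute v c := c1.1 (hc v1)
      rcases v2 with e | e <;> rw [e]
      · rw [sq, e1]
      · rw [e2.mul_pow, sq, sq, e1, h3, mul_one]
  exact (H6.eq_of_le_of_card_le le_sup_left (h4.trans f.card_V.ge)).ge
    (mem_sup_right (mem_zpowers c))

structure R2 (S : Subgroup G) (z : G) : Prop where
  i2 : ∀ N : Subgroup G, N.Normal → N.index ≠ 2
  syl : IsSylowOf 2 S ⊤
  zS : z ∈ S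
  oz : orderOf z = 2
  cz : S ≤ Cen1 z
  npc : H7.NPC 2 (Cen1 z)
  rk : PRankLE 2 2 G

structure Cj (S : Subgroup G) (z u : G) : Prop where
  uS : u ∈ S
  ne : u ≠ z
  conj : ∃ g, g * z * g⁻¹ = u

namespace R2

variable (h : R2 S z)
include h

theorem f4 (c : Cj S z u) : F4 z u := by
  obtain ⟨g, e⟩ := c.conj
  exact ⟨h.oz, e ▸ iconj h.oz g, (c1.1 (h.cz c.uS)).symm, c.ne⟩

theorem memV (c : Cj S z u) (h1 : v ∈ S ⊓ Cen1 u) (h2 : v * v = 1) : v ∈ V4 z u :=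
  mem_V_of_rank h.rk (h.f4 c) (h.cz h1.1) h1.2 h2

theorem VD (c : Cj S z u) : V4 z u ≤ S ⊓ Cen1 u :=
  V_le ⟨h.zS, (h.f4 c).tH⟩ ⟨c.uS, c1.2 rfl⟩

theorem nDV (c : Cj S z u) (hg : g ∈ Nor (S ⊓ Cen1 u : Subgroup G)) : g ∈ Nor (V4 z u) :=
  mnor fun v hv => h.memV c (cmem hg (h.VD c hv)) (W.csq (sq_V (h.f4 c) hv))

theorem sylD (c : Cj S z u) : IsSylowOf 2 (S ⊓ Cen1 u) (Cen1 z ⊓ Cen1 u) := by
  obtain ⟨T, hT, hle⟩ := exists_isSylowOf_ge (h.syl.isPGroup.to_le inf_le_left)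
    (inf_le_inf_right (Cen1 u) h.cz)
  refine hT.of_card_le (h.syl.isPGroup.to_le inf_le_left) (inf_le_inf_right _ h.cz) ?_
  have hS := h.syl.of_le h.cz le_top
  obtain ⟨k, hk, e⟩ := hS.exists_conj_le hT.isPGroup (hT.le.trans inf_le_left)
  obtain ⟨s, hs, e'⟩ := npc_fus h.npc hS hk c.uS (e (conj_mem_conjS (hle ⟨c.uS, c1.2 rfl⟩)))
  rw [← card_conjS (s⁻¹ * k) T]
  refine card_le_of_le fun x hx => ⟨?_, ?_⟩
  · exact H5.mem_of_eq (mul_mem (mul_mem (inv_mem hs) (e (conj_mem_conjS (mem_conjS.1 hx)))) hs)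
      (by group)
  · have h1 : s⁻¹ * k ∈ Cen1 u := c1'.2 (by
      calc _ = s⁻¹ * (k * u * k⁻¹) * s := by group
        _ = u := by rw [← e']; group)
    exact H5.mem_of_eq (cmem (le_normalizer h1) (hT.le (mem_conjS.1 hx)).2) (by group)

theorem swap (c : Cj S z u) (hn : ¬ S ≤ Cen1 u) :
    ∃ b ∈ Nor (S ⊓ Cen1 u : Subgroup G), b * u * b⁻¹ = u ∧ b * z * b⁻¹ = z * u := by
  obtain ⟨g, e⟩ := c.conj
  obtain ⟨T, hT, hle⟩ := exists_isSylowOf_ge (h.syl.isPGroup.to_le inf_le_left)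
    (inf_le_right : S ⊓ Cen1 u ≤ Cen1 u)
  have h1 : Nat.card S ≤ Nat.card T := by
    rw [← card_conjS g S]
    exact hT.card_le (h.syl.isPGroup.map _) (by rw [← e, ← conj_c1]; exact conjS_mono g h.cz)
  have h2 : S ⊓ Cen1 u < T := lt_of_le_of_ne hle fun e' => hn
    ((H6.eq_of_le_of_card_le inf_le_left (e' ▸ h1)).ge.trans inf_le_right)
  obtain ⟨b, hb, hb'⟩ := SetLike.exists_of_lt (lt_inf_normalizer_of_isPGroup hT.isPGroup h2)
  have h3 := hT.le hb.1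
  refine ⟨b, hb.2, c1'.1 h3, ?_⟩
  rcases (h.f4 c).symm.fix_or (V_symm z u ▸ h.nDV c hb.2) h3 with e' | e'
  · exact absurd (((h.sylD c).eq_of_le (R := T ⊓ Cen1 z) (hT.isPGroup.to_le inf_le_left)
      (le_inf hle (inf_le_left.trans h.cz)) (le_inf inf_le_right (inf_le_left.trans hT.le))).le
      ⟨hb.1, c1'.2 e'⟩) hb'
  · rw [e', (h.f4 c).c]

theorem small (c : Cj S z u) (hn : ¬ S ≤ Cen1 u) (hs : s ∈ S) (hs' : s ∉ Cen1 u)
    (hc : Nat.card (S ⊓ Cen1 u : Subgroup G) ≤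
      2 * Nat.card (S ⊓ Cen1 u ⊓ Cen1 s : Subgroup G)) : Nat.card (S ⊓ Cen1 u : Subgroup G) = 4 := by
  obtain ⟨b, b1, b2, b3⟩ := h.swap c hn
  have f := h.f4 c
  have h1 : ∀ y ∈ S ⊓ Cen1 u ⊓ Cen1 s, orderOf y = 2 → y = z := fun y hy oy => by
    rcases f.mem_V.1 (h.memV c hy.1 (ii oy)) with e | e | e | e
    · exact absurd e (ine oy)
    · exact e
    · exact absurd (c1s.1 (e ▸ hy.2)) hs'
    · exact absurd (f.cen_a (h.cz hs) (c1s.1 (e ▸ hy.2))) hs'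
  set E := S ⊓ Cen1 u ⊓ Cen1 s
  have h2 : E ⊓ conjS b E = ⊥ := by
    by_contra e
    obtain ⟨y, hy, oy⟩ := P.exists_inv_mem
      (h.syl.isPGroup.to_le (inf_le_left.trans (inf_le_left.trans inf_le_left))) e
    have h3 := h1 _ (mem_conjS.1 hy.2) (by simpa using iconj oy b⁻¹)
    rw [h1 y hy.1 oy] at h3
    refine ine f.ha (mul_left_cancel (a := z) ?_)
    rw [← b3, mul_one]
    nth_rw 1 [← h3]
    group
  have h3 := H6.card_mul_card_le E (conjS b E)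
  have h4 : Nat.card (E ⊔ conjS b E : Subgroup G) ≤ Nat.card (S ⊓ Cen1 u : Subgroup G) :=
    card_le_of_le (sup_le inf_le_left fun x hx =>
      H5.mem_of_eq (cmem b1 (mem_conjS.1 hx).1) (by group))
  rw [h2, card_bot, card_conjS, one_mul] at h3
  have h5 := card_le_of_le (h.VD c)
  rw [f.card_V] at h5
  have h6 : Nat.card E ≤ 2 := by nlinarith
  omega

theorem idx (c : Cj S z u) {B : Subgroup G} (hB : B ≤ S ⊓ Nor (V4 z u)) :
    Nat.card B ≤ 2 * Nat.card (Cen1 u ⊓ B : Subgroup G) := by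
  rw [← H5.card_inf_mul_relIndex (Cen1 u) B, mul_comm]
  refine Nat.mul_le_mul_right _ ?_
  by_cases e : B ≤ Cen1 u
  · rw [relIndex_eq_one.2 e]; omega
  obtain ⟨a, ha, ha'⟩ := SetLike.not_le_iff_exists.1 e
  have f := h.f4 c
  have h1 : ∀ y ∈ B, y ∉ Cen1 u → y * u * y⁻¹ = z * u := fun y hy hy' =>
    (f.fix_or (hB hy).2 (h.cz (hB hy).1)).resolve_left fun e => hy' (c1'.2 e)
  refine (relIndex_eq_two_iff.2 ⟨a, ha, fun y hy => ?_⟩).le
  by_cases e' : y ∈ Cen1 u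
  · exact Or.inr ⟨e', fun h2 => ha' ((mul_mem_cancel_left e').1 h2)⟩
  · refine Or.inl ⟨c1'.2 ?_, e'⟩
    calc _ = y * (a * u * a⁻¹) * y⁻¹ := by group
      _ = y * z * y⁻¹ * (y * u * y⁻¹) := by rw [h1 a ha ha']; group
      _ = u := by rw [h1 y hy e', c1'.1 (h.cz (hB hy).1), ← mul_assoc, ii h.oz, one_mul]

theorem caseA (c : Cj S z u) (hn : ¬ S ≤ Cen1 u) (h1 : ¬ S ≤ Nor (V4 z u)) :
    Nat.card (S ⊓ Cen1 u : Subgroup G) = 4 := by
  obtain ⟨y, hy, hy'⟩ := SetLike.exists_of_lt (lt_inf_normalizer_of_isPGroup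
    (P := S ⊓ Nor (V4 z u)) h.syl.isPGroup
    (lt_of_le_not_ge inf_le_left fun e => h1 (e.trans inf_le_right)))
  have f := h.f4 c
  have hD : S ⊓ Cen1 u ≤ S ⊓ Nor (V4 z u) := le_inf inf_le_left fun x hx => h.nDV c (le_normalizer hx)
  have h2 : y * u * y⁻¹ ∉ Cen1 u := fun e => hy' ⟨hy.1, mem_normalizer_of_conjS_le (by
    rw [conj_V, c1'.1 (h.cz hy.1)]
    exact V_le (t_V _ _) (h.memV c ⟨cmem (le_normalizer hy.1) c.uS, e⟩ (W.csq (ii f.ha))))⟩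
  have e : conjS y (S ⊓ Cen1 u) = S ⊓ Cen1 (y * u * y⁻¹) := by
    rw [conjS_inf, conj_c1, conjS_eq_of_mem hy.1]
  refine h.small c hn (cmem (le_normalizer hy.1) c.uS) h2 ?_
  have h3 := h.idx c (B := conjS y (S ⊓ Cen1 u)) fun x hx =>
    H5.mem_of_eq (cmem hy.2 (hD (mem_conjS.1 hx))) (by group)
  rwa [card_conjS, e, ← inf_assoc, inf_comm (Cen1 u)] at h3

theorem four (c : Cj S z u) (hn : ¬ S ≤ Cen1 u) :
    ∃ v, Cj S z v ∧ ¬ S ≤ Cen1 v ∧ Nat.card (S ⊓ Cen1 v : Subgroup G) = 4 := by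
  by_cases h1 : S ≤ Nor (V4 z u)
  swap
  · exact ⟨u, c, hn, h.caseA c hn h1⟩
  have f := h.f4 c
  obtain ⟨b, b1, b2, b3⟩ := h.swap c hn
  obtain ⟨a, ha, ha'⟩ := SetLike.not_le_iff_exists.1 hn
  have a1 := (f.fix_or (h1 ha) (h.cz ha)).resolve_left fun e => ha' (c1'.2 e)
  have hN : S ≤ Nor (S ⊓ Cen1 u : Subgroup G) := by
    rw [show S ⊓ Cen1 u = S ⊓ Cen (V4 z u) by rw [cen_V, ← inf_assoc, inf_eq_left.2 h.cz]]
    exact ninf le_normalizer (ncen h1)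
  have tr : ∀ w ∈ V4 z u, w ≠ 1 → ∃ n ∈ Nor (S ⊓ Cen1 u : Subgroup G), n * w * n⁻¹ = z :=
    fun w hw w1 => by
      rcases f.mem_V.1 hw with e | e | e | e <;> rw [e]
      · exact absurd e w1
      · exact ⟨1, one_mem _, by group⟩
      · exact ⟨b⁻¹ * a, mul_mem (inv_mem b1) (hN ha), by
          calc _ = b⁻¹ * (a * u * a⁻¹) * b := by group
            _ = z := by rw [a1, ← b3]; group⟩
      · exact ⟨b⁻¹, inv_mem b1, by rw [← b3]; group⟩
  have hi : (S ⊓ Cen1 u).relIndex S = 2 := by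
    have h2 := h.idx c (B := S) (le_inf le_rfl h1)
    rw [← H5.card_inf_mul_relIndex (Cen1 u) S, mul_comm 2] at h2
    have h3 := Nat.le_of_mul_le_mul_left h2 Nat.card_pos
    have h4 : (Cen1 u).relIndex S ≠ 1 := fun e => hn (relIndex_eq_one.1 e)
    have h5 : (Cen1 u).relIndex S ≠ 0 := relIndex_ne_zero_of_finite _ _
    rw [inf_comm, inf_relIndex_right]
    omega
  have inv : ∀ y ∈ S, y ≠ 1 → ∃ w ∈ zpowers y, orderOf w = 2 := fun y hy y1 =>
    P.exists_inv_mem (h.syl.isPGroup.to_le (zpowers_le.2 hy)) (by rwa [Ne, zpowers_eq_bot])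
  obtain ⟨s, s1, s2, s3⟩ : ∃ s ∈ S, s ∉ S ⊓ Cen1 u ∧ s * s = 1 := by
    by_contra hc
    push Not at hc
    refine no_index_two h.i2 h.syl h.oz h.cz h.npc inf_le_left hi (fun y y1 y2 => ⟨hc y y1 y2, ?_⟩)
      fun y y1 y2 => ?_
    · obtain ⟨w, w1, w2⟩ := inv _ (mul_mem y1 y1) (hc y y1 y2)
      have w3 := zpowers_le.2 (mul_mem (mem_zpowers y) (mem_zpowers y)) w1
      have w4 : y ∈ Cen1 w := c1.2 (H9.comm_of_mem_zpowers (mem_zpowers y) w3)
      have y3 : y ∉ Cen1 u := fun e => y2 ⟨y1, e⟩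
      rcases f.mem_V.1 (h.memV c (zpowers_le.2 ((Dich.mul_mem_iff_of_relIndex hi y1 y1).2 Iff.rfl)
        w1) (ii w2)) with e | e | e | e
      · exact absurd e (ine w2)
      · exact e ▸ w3
      · exact absurd (e ▸ w4) y3
      · exact absurd (f.cen_a (h.cz y1) (e ▸ w4)) y3
    · obtain ⟨w, w1, w2⟩ := inv _ y1.1 fun e => y2 (by rw [e, mul_one])
      obtain ⟨n, n1, n2⟩ := tr w (h.memV c (zpowers_le.2 y1 w1) (ii w2)) (ine w2)
      obtain ⟨i, rfl⟩ := w1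
      exact ⟨n, cmem n1 y1, i, by simp only at n2 ⊢; rw [conj_zpow, n2]⟩
  have s4 : s ≠ 1 := fun e => s2 (e ▸ one_mem _)
  have s5 : s ∉ Cen1 u := fun e => s2 ⟨s1, e⟩
  obtain ⟨g, hg⟩ := Dich.exists_conj_mem h.i2 _ (P.index_mod_four h.syl inf_le_left hi) s3
  obtain ⟨n, n1, n2⟩ := tr _ (h.memV c hg (by simpa using W.csq (g := g⁻¹) s3)) fun e => s4 (by
    calc s = g * (g⁻¹ * s * g) * g⁻¹ := by group
      _ = 1 := by rw [e]; group)
  have c' : Cj S z s := ⟨s1, fun e => s5 (e ▸ f.tH), g * n⁻¹, by rw [← n2]; group⟩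
  have hn' : ¬ S ≤ Cen1 s := fun e => s5 (c1s.1 (e c.uS))
  by_cases h2 : S ≤ Nor (V4 z s)
  · refine ⟨u, c, hn, h.small c hn s1 s5 ?_⟩
    rw [inf_comm _ (Cen1 s)]
    exact h.idx c' (inf_le_left.trans (le_inf le_rfl h2))
  · exact ⟨s, c', hn', h.caseA c' hn' h2⟩

theorem d2 (c : Cj S z v) (hn : ¬ S ≤ Cen1 v) (h4 : Nat.card (S ⊓ Cen1 v : Subgroup G) = 4) :
    D2 G := by
  have f := h.f4 c
  have hV : V4 z v = S ⊓ Cen1 v := H6.eq_of_le_of_card_le (h.VD c) (by rw [h4, f.card_V])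
  obtain ⟨a, ha, hi⟩ := (P.exists_cyc_of_four h.syl.isPGroup f.ha c.uS h4).resolve_left fun e =>
    hn ((H6.eq_of_le_of_card_le inf_le_left (by rw [e, h4])).ge.trans inf_le_right)
  have hA := zpowers_le.2 ha
  have hzA : ∀ y ∈ zpowers a, orderOf y = 2 → y = z := fun y hy oy => by
    have h1 := P.le_cen_of_index_two ha hi hy oy
    rcases f.mem_V.1 (hV.ge ⟨hA hy, c1s.1 (h1 c.uS)⟩) with e | e | e | e
    · exact absurd e (ine oy)
    · exact e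
    · exact absurd (e ▸ h1) hn
    · exact absurd (fun g hg => f.cen_a (h.cz hg) (e ▸ h1 hg)) hn
  have vA : v ∉ zpowers a := fun e => c.ne (hzA v e f.ha)
  have hd : ∀ y ∈ S, y ∉ zpowers a → ∀ y' ∈ S, y' ∉ zpowers a → y * y' ∈ zpowers a :=
    fun y hy hy' y' h5 h6 => (Dich.mul_mem_iff_of_relIndex hi hy h5).2 (iff_of_false hy' h6)
  have zA : z ∈ zpowers a := by
    by_contra e
    exact ine f.ha (mul_left_cancel (a := z) ((hzA _ (hd z h.zS e v c.uS vA) f.hta).trans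
      (mul_one z).symm))
  have aN : S ≤ Nor (zpowers a) := (normal_subgroupOf_iff_le_normalizer hA).1
    (normal_of_index_eq_two hi)
  have cA : ∀ {b c : G}, b ∈ zpowers a → c ∈ zpowers a → b * c = c * b := fun hb hc =>
    H9.comm_of_mem_zpowers hb hc
  have vv := ii f.ha
  have vi := iinv f.ha
  have sq' : ∀ b : G, b * v * (b * v) = b * (v * b * v⁻¹) := fun b => by rw [vi]; group
  have hinv : ∀ b ∈ zpowers a, b * (v * b * v⁻¹) = 1 ∨ b * (v * b * v⁻¹) = z := fun b hb => by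
    have h5 := cmem (aN c.uS) hb
    have h6 : b * (v * b * v⁻¹) ∈ V4 z v := hV.ge ⟨hA (mul_mem hb h5), c1s.1 (c1'.2 (by
      calc _ = v * b * v⁻¹ * (v * v * b * (v * v)⁻¹) := by group
        _ = _ := by rw [vv, cA hb h5]; group))⟩
    rcases f.mem_V.1 h6 with h6 | h6 | h6 | h6
    · exact Or.inl h6
    · exact Or.inr h6
    · exact absurd (h6 ▸ mul_mem hb h5) vA
    · exact absurd ((mul_mem_cancel_left zA).1 (h6 ▸ mul_mem hb h5)) vA
  have dec : ∀ y ∈ S, y ∉ zpowers a → ∃ b ∈ zpowers a, y = b * v := fun y hy hy' =>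
    ⟨y * v, hd y hy hy' v c.uS vA, by rw [mul_assoc, vv, mul_one]⟩
  by_cases hall : ∀ b ∈ zpowers a, b * (v * b * v⁻¹) = 1
  · obtain ⟨T, rfl⟩ := h.syl.exists_sylow_top
    refine D2_of_sylow T (x := a) fun y hy hy' => ⟨?_, ?_, hd y hy hy'⟩
    · obtain ⟨b, hb, rfl⟩ := dec y hy hy'
      rw [sq', hall b hb]
    · obtain ⟨b, hb, rfl⟩ := dec y hy hy'
      rw [show b * v * a * (b * v)⁻¹ = b * (v * a * v⁻¹) * b⁻¹ by group,
        eq_inv_of_mul_eq_one_right (hall a (mem_zpowers a)), cA hb (inv_mem (mem_zpowers a))]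
      group
  exfalso
  push Not at hall
  obtain ⟨d, hd1, hd2⟩ := hall
  replace hd2 := (hinv d hd1).resolve_left hd2
  have hmul : ∀ b ∈ zpowers a, ∀ b' ∈ zpowers a, b * b' * (v * (b * b') * v⁻¹) =
      b * (v * b * v⁻¹) * (b' * (v * b' * v⁻¹)) := fun b hb b' hb' => by
    calc _ = b * (b' * (v * b * v⁻¹)) * (v * b' * v⁻¹) := by group
      _ = _ := by rw [cA hb' (cmem (aN c.uS) hb)]; group
  let K : Subgroup G :=
    { carrier := {b | b ∈ zpowers a ∧ b * (v * b * v⁻¹) = 1}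
      one_mem' := ⟨one_mem _, by group⟩
      mul_mem' := fun {x y} hx hy => ⟨mul_mem hx.1 hy.1, by rw [hmul x hx.1 y hy.1, hx.2, hy.2, mul_one]⟩
      inv_mem' := fun {x} hx => ⟨inv_mem hx.1, by
        have := hmul x hx.1 x⁻¹ (inv_mem hx.1)
        rw [hx.2, one_mul] at this
        rw [← this]; group⟩ }
  have vK : v ∈ Nor K := mnor fun b hb => by
    rw [eq_inv_of_mul_eq_one_right hb.2]; exact inv_mem hb
  have hM : ∀ b ∈ zpowers a, (b ∈ K ⊔ zpowers v ↔ b * (v * b * v⁻¹) = 1) ∧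
      (b * v ∈ K ⊔ zpowers v ↔ b * (v * b * v⁻¹) = 1) := fun b hb => by
    have h1 : b ∈ K ⊔ zpowers v ↔ b * (v * b * v⁻¹) = 1 := ⟨fun e => by
      obtain ⟨k, hk, w, hw, rfl⟩ := (H7.mem_sup_of_le_normalizer_left (zpowers_le.2 vK)).1 e
      rcases mem_zp2 vv hw with rfl | rfl
      · rw [mul_one]; exact hk.2
      · exact absurd ((mul_mem_cancel_left hk.1).1 hb) vA, fun e => mem_sup_left ⟨hb, e⟩⟩
    exact ⟨h1, (mul_mem_cancel_right (mem_sup_right (mem_zpowers v))).trans h1⟩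
  have z1 := ine h.oz
  have zz := ii h.oz
  have zin : ∀ b ∈ zpowers a, b ≠ 1 → z ∈ zpowers b := fun b hb b1 => by
    obtain ⟨w, w1, w2⟩ := P.exists_inv_mem (h.syl.isPGroup.to_le (zpowers_le.2 (hA hb)))
      (by rwa [Ne, zpowers_eq_bot])
    exact hzA w (zpowers_le.2 hb w1) w2 ▸ w1
  have xor : ∀ b ∈ zpowers a, ∀ e ∈ zpowers a, e * (v * e * v⁻¹) = z →
      Xor (b * e * (v * (b * e) * v⁻¹) = 1) (b * (v * b * v⁻¹) = 1) := fun b hb e he e1 => by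
    rw [hmul b hb e he, e1]
    rcases hinv b hb with e' | e' <;> rw [e']
    · exact Or.inr ⟨rfl, by rwa [one_mul]⟩
    · exact Or.inl ⟨zz, z1⟩
  refine no_index_two h.i2 h.syl h.oz h.cz h.npc (M := K ⊔ zpowers v)
    (sup_le (fun b hb => hA hb.1) (zpowers_le.2 c.uS))
    (relIndex_eq_two_iff.2 ⟨d, hA hd1, fun y hy => ?_⟩) (fun y hy hy' => ?_) fun y hy hy' => ?_
  · by_cases e : y ∈ zpowers a
    · rw [(hM _ (mul_mem e hd1)).1, (hM _ e).1]
      exact xor y e d hd1 hd2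
    · obtain ⟨b, hb, rfl⟩ := dec y hy e
      have h1 := cmem (aN c.uS) hd1
      rw [show b * v * d = b * (v * d * v⁻¹) * v by group, (hM _ (mul_mem hb h1)).2, (hM _ hb).2]
      refine xor b hb _ h1 ?_
      rw [← hd2, cA hd1 h1]
      calc _ = v * d * v⁻¹ * (v * v * d * (v * v)⁻¹) := by group
        _ = _ := by rw [vv]; group
  · by_cases e : y ∈ zpowers a
    · have y1 : y ≠ 1 := fun e' => hy' (e' ▸ one_mem _)
      refine ⟨fun e' => hy' ((hM y e).1.2 ?_), zin y e y1⟩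
      rw [hzA y e (orderOf_eq_two' e' y1), c1'.1 f.aH, zz]
    · obtain ⟨b, hb, rfl⟩ := dec y hy e
      have h1 := (hinv b hb).resolve_left fun e' => hy' ((hM b hb).2.2 e')
      rw [← sq'] at h1
      exact ⟨h1 ▸ z1, h1 ▸ mul_mem (mem_zpowers _) (mem_zpowers _)⟩
  · refine ⟨1, by simpa using hy, ?_⟩
    by_cases e : y ∈ zpowers a
    · simpa using zin y e fun e' => hy' (by rw [e', mul_one])
    · obtain ⟨b, hb, rfl⟩ := dec y (sup_le (fun b hb => hA hb.1) (zpowers_le.2 c.uS) hy) e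
      exact absurd ((sq' b).trans ((hM b hb).2.1 hy)) hy'

end R2

theorem rank2 : Rank2Thm.{u} := by
  intro G _ _ hs hG hI hr
  replace hI : ∀ t : G, orderOf t = 2 → H7.NPC 2 (Cen1 t) :=
    fun t ht => H7.hasNormalPComplement_iff.1 (hI t ht)
  obtain ⟨S, hS⟩ := exists_isSylowOf 2 (⊤ : Subgroup G)
  obtain ⟨z, z1, z2, z3⟩ := P.exists_zinv hS.isPGroup
    (hS.ne_bot (by rw [card_top]; exact (BS.even_of_simple hG).two_dvd))
  have h : R2 S z := ⟨Dich.no_index_two_of_simple hG, hS, z1, z2, z3, hI z z2, hr⟩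
  obtain ⟨u, c⟩ : ∃ u, Cj S z u := by
    by_contra hc
    refine hG ⟨⟨H3.comm_of_isolated z2 (H3.isolated_of_weaklyClosed (p := 2)
      (L.PElt_of_orderOf (k := 1) z2) (hS.of_le z3 le_top) fun g hg => ?_)⟩⟩
    by_contra e
    exact hc ⟨_, hg, e, g, rfl⟩
  by_cases hn : S ≤ Cen1 u
  swap
  · obtain ⟨v, c', h1, h2⟩ := h.four c hn
    rcases gwThm G hG (h.d2 c' h1 h2) with ⟨F, i1, i2, -, h3, h4⟩ | h3
    · exact Or.inl ⟨F, i1, i2, h3, h4⟩
    · exact Or.inr (Or.inr (Or.inl h3))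
  have f := h.f4 c
  obtain ⟨g, e⟩ := c.conj
  obtain ⟨k, hk, e'⟩ := ((hS.map_conj (g := g) (le_normalizer (mem_top g))).of_le (H := Cen1 u)
    (by rw [← e, ← conj_c1]; exact conjS_mono g z3) le_top).exists_conj (hS.of_le hn le_top)
  have n1 : k * g ∈ Nor S := mem_normalizer_iff_conjS.2 (by rw [← conjS_conjS]; exact e')
  have n2 : k * g ∉ Cen (V4 z u) := fun e'' => c.ne (by
    rw [cen_V] at e''
    calc u = k * u * k⁻¹ := (c1'.1 hk).symm
      _ = k * g * z * (k * g)⁻¹ := by rw [← e]; group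
      _ = z := c1'.1 e''.1)
  rcases Ly.ab_or_u34 hS f.card_V (fun x => ⟨fun hx => ⟨(h.VD c hx).1, sq_V f hx⟩,
    fun hx => h.memV c ⟨hx.1, hn hx.1⟩ hx.2⟩)
    (fun w hw x hx => cen.1 (cen_V z u ▸ ⟨z3 hx, hn hx⟩ : x ∈ Cen (V4 z u)) w hw) n1 n2 with ab | u3
  · have a : W.AS S ⊤ := ⟨hS, ab⟩
    rcases W.known_top _ G S rfl hG a with h4 | ⟨M, hM⟩ | ⟨t, N, j⟩
    · obtain ⟨F, i1, i2, -, h1, h2⟩ := W.l2_four hG a h4
      exact Or.inl ⟨F, i1, i2, by omega, h2⟩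
    · exact concl_of_se hG hI hM
    · obtain ⟨ρ, r1, r2, r3⟩ := j.rho
      have h1 : S ≤ zpowers t := fun v hv => r3 v hv (by
        obtain ⟨s, hs, e⟩ := npc_fus (hI t j.ot) (hS.of_le (a.c1 j.tS) le_top) (j.le r1).2 hv
          (cmem r2 hv)
        rw [← e, a.cm hs hv, mul_inv_cancel_right])
      have h2 := card_le_of_le h1
      rw [j.c8, Nat.card_zpowers, j.ot] at h2
      omega
  · exact concl_of_se hG hI (u3.base hS n1 n2).se

end CIT
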